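import Cfsg.Agent.Lib.Coprime.Action
import Cfsg.Agent.Lib.PGroups.Frattini
import Mathlib.GroupTheory.SpecificGroups.Cyclic

/-!
# A coprime automorphism of a `p`-group fixing all subgroups of one order

If `α` has order prime to `p (p - 1)` and fixes every subgroup of order `p ^ j` (and of order 4 when `p ^ j = 2`)
of a `p`-group of order above `p ^ j`, then `α = 1`.
-/

set_option autoImplicit false

namespace Cfsg.Agent.Lib.LA5.HSub.Core

open Subgroup

variable {U : Type*} [Group U] [Finite U] {p : ℕ} [hp : Fact p.Prime]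

/-- An automorphism of order prime to `p - 1` acts trivially on a quotient of order `p`. -/
theorem fixed_mod_of_index (α : MulAut U) (hα : (orderOf α).Coprime (p - 1)) {M : Subgroup U}
    [M.Normal] (hidx : M.index = p) (hM : M.map α.toMonoidHom = M) (u : U) :
    α u * u⁻¹ ∈ M := by
  let β : MulAut (U ⧸ M) := QuotientGroup.congr M M α hM
  have hβ : ∀ x : U, β (x : U ⧸ M) = ((α x : U) : U ⧸ M) := fun _ => rfl
  have hn : β ^ orderOf α = 1 := by
    refine MulEquiv.ext fun q => ?_
    induction q using QuotientGroup.induction_on with | _ x => ?_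
    have : ∀ n : ℕ, (β ^ n) (x : U ⧸ M) = (((α ^ n) x : U) : U ⧸ M) := by
      intro n
      induction n with
      | zero => rfl
      | succ n ih => rw [pow_succ', MulAut.mul_apply, ih, hβ, pow_succ', MulAut.mul_apply]
    rw [this, pow_orderOf_eq_one]
    rfl
  have : IsCyclic (U ⧸ M) := isCyclic_of_prime_card (index_eq_card M ▸ hidx)
  have hcard : Nat.card (MulAut (U ⧸ M)) = p - 1 := by
    rw [IsCyclic.card_mulAut, ← index_eq_card, hidx, Nat.totient_prime hp.out]
  have hdvd : orderOf β ∣ Nat.gcd (orderOf α) (p - 1) :=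
    Nat.dvd_gcd (orderOf_dvd_of_pow_eq_one hn) (hcard ▸ orderOf_dvd_natCard β)
  rw [hα, Nat.dvd_one, orderOf_eq_one_iff] at hdvd
  rw [← QuotientGroup.eq_one_iff]
  show ((α u : U) : U ⧸ M) * ((u : U) : U ⧸ M)⁻¹ = 1
  rw [← hβ, hdvd]
  simp

/-- Coprime action: trivial on `U / N` and on `N`, or `N` inside the Frattini subgroup, gives trivial. -/
theorem eq_one_of_mod (α : MulAut U) (hU : IsPGroup p U) (hα : (orderOf α).Coprime p) {N : Subgroup U}
    [N.Normal] (hquot : ∀ u, α u * u⁻¹ ∈ N)
    (h : (∀ x ∈ N, α x = x) ∨ N ≤ frattini U) : α = 1 := by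
  have hN : ∀ x ∈ N, α x ∈ N := fun x hx => by simpa using N.mul_mem (hquot x) hx
  have hNz : ∀ (a : zpowers α), ∀ x ∈ N, a • x ∈ N := by
    rintro ⟨a, ha⟩ x hx
    obtain ⟨n, rfl⟩ := (mem_powers_iff_mem_zpowers).2 ha
    show (α ^ n) x ∈ N
    induction n with
    | zero => simpa
    | succ n ih => rw [pow_succ', MulAut.mul_apply]; exact hN _ (ih (pow_mem (mem_zpowers α) n))
  have hqz : ∀ (a : zpowers α) (u : U), u⁻¹ * a • u ∈ N := by
    rintro ⟨a, ha⟩ u
    obtain ⟨n, rfl⟩ := (mem_powers_iff_mem_zpowers).2 ha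
    show u⁻¹ * (α ^ n) u ∈ N
    clear ha
    induction n with
    | zero => simp
    | succ n ih =>
      rw [pow_succ', MulAut.mul_apply]
      have h1 := (Subgroup.Normal.mem_comm_iff inferInstance).1 (hquot ((α ^ n) u))
      have h2 := N.mul_mem ih h1
      simpa [mul_assoc] using h2
  obtain ⟨k, hk⟩ := (hU.to_subgroup N).exists_card_eq
  have hcop : (Nat.card (zpowers α)).Coprime (Nat.card N) := by
    rw [Nat.card_zpowers, hk]; exact hα.pow_right k
  let C : Subgroup U := α.toMonoidHom.eqLocus (MonoidHom.id U)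
  suffices hC : C = ⊤ from MulEquiv.ext fun u => (hC ▸ mem_top u : u ∈ C)
  have key : ∀ u : U, ∃ n ∈ N, u * n ∈ C := by
    intro u
    obtain ⟨n, hn, hf⟩ := Cfsg.Agent.Lib.Coprime.Action.exists_mul_fixed (A := zpowers α) hNz hcop
      (Or.inl inferInstance) (g := u) (fun a => hqz a u)
    exact ⟨n, hn, hf ⟨α, mem_zpowers α⟩⟩
  rcases h with h | h
  · refine eq_top_iff.2 fun u _ => ?_
    obtain ⟨n, hn, hf⟩ := key u
    have h' : α (u * n) = u * n := hf
    rw [map_mul, h n hn] at h'
    exact mul_right_cancel h'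
  · refine frattini_nongenerating (eq_top_iff.2 fun u _ => ?_)
    obtain ⟨n, hn, hf⟩ := key u
    have := mul_mem (mem_sup_left (T := frattini U) hf) (mem_sup_right (S := C) (inv_mem (h hn)))
    rwa [mul_inv_cancel_right] at this

/-- Subgroups of prescribed order between a subgroup and `⊤` in a `p`-group. -/
theorem exists_between {j : ℕ} (hU : IsPGroup p U) {H : Subgroup U} (hH : Nat.card H ≤ p ^ j)
    {M : Subgroup U} (hHM : H ≤ M) (hM : p ^ j ≤ Nat.card M) :
    ∃ E : Subgroup U, Nat.card E = p ^ j ∧ H ≤ E ∧ E ≤ M := by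
  obtain ⟨a, ha⟩ := (hU.to_subgroup H).exists_card_eq
  obtain ⟨b, hb⟩ := (hU.to_subgroup M).exists_card_eq
  rw [ha, Nat.pow_le_pow_iff_right hp.out.one_lt] at hH
  rw [hb, Nat.pow_le_pow_iff_right hp.out.one_lt] at hM
  obtain ⟨K, hK, hHK⟩ := Sylow.exists_subgroup_card_pow_prime_le (G := M) p
    (hb ▸ pow_dvd_pow p hM) (H.subgroupOf M)
    (by rw [Nat.card_congr (subgroupOfEquivOfLe hHM).toEquiv, ha]) hH
  refine ⟨K.map M.subtype, by rw [card_map_of_injective M.subtype_injective, hK], ?_, map_subtype_le _⟩
  exact fun x hx => ⟨⟨x, hHM hx⟩, hHK (mem_subgroupOf.2 hx), rfl⟩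

theorem eq_one_aux (j : ℕ) (hj : 1 ≤ j) :
    ∀ (N : ℕ) (U : Type _) [Group U] [Finite U], Nat.card U = N → IsPGroup p U → ∀ α : MulAut U,
      (orderOf α).Coprime p → (orderOf α).Coprime (p - 1) → p ^ j < Nat.card U →
      (∀ E : Subgroup U, (Nat.card E = p ^ j ∨ (p ^ j = 2 ∧ Nat.card E = 4)) →
        E.map α.toMonoidHom = E) → α = 1 := by
  intro N
  induction N using Nat.strong_induction_on with | _ N ih => ?_
  intro U _ _ hN hU α hαp hαp1 hd hinv
  classical
  -- invariant subgroups, and those of order above `p ^ j` are centralised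
  have hfix : ∀ R : Subgroup U, R ≠ ⊤ → p ^ j < Nat.card R → R.map α.toMonoidHom = R →
      ∀ x ∈ R, α x = x := by
    intro R hRt hRd hR x hx
    let β : MulAut R := (α.subgroupMap R).trans (MulEquiv.subgroupCongr hR)
    have hβ : ∀ y : R, ((β y : R) : U) = α y := fun _ => rfl
    have hord : orderOf β ∣ orderOf α := by
      refine orderOf_dvd_of_pow_eq_one (MulEquiv.ext fun y => Subtype.ext ?_)
      have : ∀ n : ℕ, (((β ^ n) y : R) : U) = (α ^ n) (y : U) := by
        intro n
        induction n with
        | zero => rfl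
        | succ n ih' => rw [pow_succ', MulAut.mul_apply, hβ, ih', pow_succ', MulAut.mul_apply]
      rw [this, pow_orderOf_eq_one]; rfl
    have hlt : Nat.card R < N := hN ▸ lt_of_le_of_ne
      (Nat.le_of_dvd Nat.card_pos (card_subgroup_dvd_card R))
      (fun e => hRt (eq_top_of_card_eq R e))
    have := ih _ hlt R rfl (hU.to_subgroup R) β (Nat.Coprime.coprime_dvd_left hord hαp)
      (Nat.Coprime.coprime_dvd_left hord hαp1) hRd (fun E hE => ?_)
    · have h1 := congrArg Subtype.val (DFunLike.congr_fun this ⟨x, hx⟩)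
      rw [hβ] at h1
      exact h1
    · have h1 := hinv (E.map R.subtype) (by
        rwa [card_map_of_injective R.subtype_injective])
      apply map_injective R.subtype_injective
      conv_rhs => rw [← h1]
      rw [map_map, map_map]
      rfl
  by_contra hne
  have hΦn : (frattini U).Normal := inferInstance
  have hmax : ∀ M : Subgroup U, IsCoatom M → p ^ j ≤ Nat.card M ∧ M.Normal ∧ M.index = p := by
    intro M hM
    refine ⟨?_, PGroups.coatom_normal hU hM, PGroups.coatom_index hU hM⟩
    obtain ⟨a, ha⟩ := hU.exists_card_eq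
    have h1 := M.card_mul_index
    rw [PGroups.coatom_index hU hM] at h1
    rw [ha, Nat.pow_lt_pow_iff_right hp.out.one_lt] at hd
    have h2 : p ^ j * p ≤ Nat.card M * p := by
      rw [h1, ha, ← pow_succ]; exact Nat.pow_le_pow_right hp.out.pos hd
    exact Nat.le_of_mul_le_mul_right h2 hp.out.pos
  -- step 1: some maximal subgroup is not invariant
  have hnoinv : ∀ M : Subgroup U, IsCoatom M → M.map α.toMonoidHom = M → Nat.card M = p ^ j := by
    intro M hM hMi
    obtain ⟨h1, h2, h3⟩ := hmax M hM
    refine (h1.lt_or_eq.resolve_left fun hlt => hne ?_).symm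
    exact eq_one_of_mod α hU hαp (fixed_mod_of_index α hαp1 h3 hMi) (Or.inl (hfix M hM.1 hlt hMi))
  have hstep1 : ¬ ∀ M : Subgroup U, IsCoatom M → M.map α.toMonoidHom = M := by
    intro hall
    refine hne (eq_one_of_mod α hU hαp (N := frattini U) (fun u => ?_) (Or.inr le_rfl))
    simp only [frattini, Order.radical, Subgroup.mem_iInf]
    intro M hM
    obtain ⟨-, h2, h3⟩ := hmax M hM
    exact fixed_mod_of_index α hαp1 h3 (hall M hM) u
  -- step 2: `α` has no fixed points on `U / Φ`
  let f := QuotientGroup.mk' (frattini U)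
  obtain ⟨hVc, -⟩ := PGroups.frattiniQuotient_elemAb hU
  have hfc : ∀ a b : U, f a * f b = f b * f a := fun a b =>
    congrArg Subtype.val (hVc.is_comm.comm (⟨f a, mem_top _⟩ : (⊤ : Subgroup (U ⧸ frattini U))) ⟨f b, mem_top _⟩)
  let δ : U →* U ⧸ frattini U := MonoidHom.mk' (fun u => f (α u) * (f u)⁻¹) fun a b => by
    simp only [map_mul, mul_inv_rev]
    calc f (α a) * f (α b) * ((f b)⁻¹ * (f a)⁻¹)
        = f (α a) * (f (α b * b⁻¹) * f a⁻¹) := by simp only [map_mul, map_inv]; group
      _ = f (α a) * (f a⁻¹ * f (α b * b⁻¹)) := by rw [hfc]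
      _ = _ := by simp only [map_mul, map_inv]; group
  have hD : Subgroup.closure (Set.range fun u => α u * u⁻¹) = ⊤ := by
    by_contra hD
    obtain ⟨M, hM, hDM⟩ := (eq_top_or_exists_le_coatom
      (Subgroup.closure (Set.range fun u => α u * u⁻¹))).resolve_left hD
    have hinvM : ∀ R : Subgroup U, M ≤ R → R.map α.toMonoidHom = R := by
      intro R hR
      refine eq_of_le_of_card_ge ?_ (card_map_of_injective α.injective).ge
      rintro _ ⟨x, hx, rfl⟩
      have := R.mul_mem (hR (hDM (subset_closure ⟨x, rfl⟩))) hx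
      rwa [inv_mul_cancel_right] at this
    have hMd := hnoinv M hM (hinvM M le_rfl)
    apply hstep1
    intro M' hM'
    obtain ⟨-, hn, hi⟩ := hmax M' hM'
    refine hinv M' (Or.inl ?_)
    have h1 := M'.card_mul_index
    have h2 := M.card_mul_index
    rw [hi] at h1
    rw [(hmax M hM).2.2] at h2
    exact hMd ▸ Nat.eq_of_mul_eq_mul_right hp.out.pos (h1.trans h2.symm)
  have hδsurj : Function.Surjective δ := by
    rw [← MonoidHom.range_eq_top, eq_top_iff, ← map_top_of_surjective f (QuotientGroup.mk'_surjective _),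
      ← hD, MonoidHom.map_closure, closure_le]
    rintro _ ⟨_, ⟨u, rfl⟩, rfl⟩
    exact ⟨u, by simp [δ, f]⟩
  have hnofix : ∀ u, α u * u⁻¹ ∈ frattini U → u ∈ frattini U := by
    have hle : frattini U ≤ δ.ker := by
      intro u hu
      have hmem : α u ∈ frattini U := by
        have h := frattini_le_comap_frattini_of_surjective (φ := α.toMonoidHom) α.surjective hu
        exact h
      show f (α u) * (f u)⁻¹ = 1
      rw [show f (α u) = 1 from (QuotientGroup.eq_one_iff _).2 hmem,
        show f u = 1 from (QuotientGroup.eq_one_iff u).2 hu, inv_one, mul_one]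
    have heq : frattini U = δ.ker := by
      refine eq_of_le_of_card_ge hle (le_of_eq ?_)
      have h1 := Subgroup.card_eq_card_quotient_mul_card_subgroup δ.ker
      have h2 := Subgroup.card_eq_card_quotient_mul_card_subgroup (frattini U)
      rw [Nat.card_congr (QuotientGroup.quotientKerEquivOfSurjective δ hδsurj).toEquiv] at h1
      exact Nat.eq_of_mul_eq_mul_left Nat.card_pos (h1.symm.trans h2)
    intro u hu
    rw [heq]
    show f (α u) * (f u)⁻¹ = 1
    rw [← map_inv, ← map_mul]
    exact (QuotientGroup.eq_one_iff _).2 hu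
  -- step 3: all subgroups of the given orders lie in the Frattini subgroup
  have hΦne : frattini U ≠ ⊤ := by
    intro h
    refine hne (MulEquiv.ext fun u => ?_)
    have : Subsingleton U := by
      by_contra hs
      haveI := not_subsingleton_iff_nontrivial.1 hs
      obtain ⟨M, hM, -⟩ := (eq_top_or_exists_le_coatom (⊥ : Subgroup U)).resolve_left bot_ne_top
      exact hM.1 (eq_top_iff.2 (h ▸ frattini_le_coatom hM))
    exact Subsingleton.elim _ _
  have hinvΦ : (frattini U).map α.toMonoidHom = frattini U := by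
    refine eq_of_le_of_card_ge (map_le_iff_le_comap.2 ?_) (card_map_of_injective α.injective).ge
    exact frattini_le_comap_frattini_of_surjective α.surjective
  have hE : ∀ E : Subgroup U, (Nat.card E = p ^ j ∨ (p ^ j = 2 ∧ Nat.card E = 4)) → E ≠ ⊤ →
      E ≤ frattini U := by
    intro E hEc hEt
    by_contra hEΦ
    obtain ⟨e, he, heΦ⟩ := SetLike.not_le_iff_exists.1 hEΦ
    have hEge : p ^ j ≤ Nat.card E := by rcases hEc with h | ⟨h, h4⟩ <;> omega
    have hEi := hinv E hEc
    rcases (hEge.trans (card_le_of_le (le_sup_left : E ≤ E ⊔ frattini U))).lt_or_eq with hlt | heq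
    · refine heΦ (hnofix e ?_)
      rw [hfix _ (fun h => hEt (frattini_nongenerating h)) hlt
        (by rw [Subgroup.map_sup, hEi, hinvΦ]) e (mem_sup_left he), mul_inv_cancel]
      exact one_mem _
    · -- `Φ < E` and `|E| = p ^ j`: every maximal subgroup is invariant
      apply hstep1
      intro M hM
      have hEsup : E ⊔ frattini U = E :=
        (eq_of_le_of_card_ge le_sup_left (heq.ge.trans hEge)).symm
      have hΦE : frattini U ≤ E := hEsup ▸ le_sup_right
      have hΦlt : p * Nat.card (frattini U) ≤ p ^ j := by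
        obtain ⟨a, ha⟩ := (hU.to_subgroup (frattini U)).exists_card_eq
        have h1 : Nat.card (frattini U) < Nat.card E :=
          lt_of_le_of_ne (card_le_of_le hΦE)
            fun h => hEΦ (eq_of_le_of_card_ge hΦE h.ge).ge
        have hcE : Nat.card E = p ^ j := by rw [hEsup] at heq; omega
        rw [hcE, ha, Nat.pow_lt_pow_iff_right hp.out.one_lt] at h1
        rw [ha, ← pow_succ']
        exact Nat.pow_le_pow_right hp.out.pos h1
      refine eq_of_le_of_card_ge (fun y hy => ?_) (card_map_of_injective α.injective).ge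
      obtain ⟨x, hx, rfl⟩ := hy
      have hcard : Nat.card (frattini U ⊔ zpowers x : Subgroup U) ≤ p ^ j := by
        refine le_trans ?_ hΦlt
        have hxp : x ^ p ∈ frattini U := PGroups.pow_mem_frattini hU x
        have hrel : (frattini U).relIndex (frattini U ⊔ zpowers x) ≤ p := by
          rw [relIndex_sup_left]
          refine Nat.le_of_dvd hp.out.pos ?_
          rw [relIndex, index_eq_card]
          haveI : IsCyclic (zpowers x ⧸ (frattini U).subgroupOf (zpowers x)) :=
            isCyclic_of_surjective _ (QuotientGroup.mk'_surjective _)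
          obtain ⟨g, hg⟩ := IsCyclic.exists_generator (α := zpowers x ⧸ (frattini U).subgroupOf (zpowers x))
          rw [← orderOf_eq_card_of_forall_mem_zpowers hg]
          obtain ⟨⟨y, hy⟩, rfl⟩ := QuotientGroup.mk'_surjective _ g
          refine orderOf_dvd_of_pow_eq_one ((QuotientGroup.eq_one_iff _).2 ?_)
          obtain ⟨n, rfl⟩ := mem_zpowers_iff.1 hy
          show (x ^ n) ^ p ∈ frattini U
          rw [← zpow_natCast, ← zpow_mul, mul_comm, zpow_mul, zpow_natCast]
          exact zpow_mem hxp n
        rw [← relIndex_bot_left, ← relIndex_mul_relIndex ⊥ (frattini U) _ bot_le le_sup_left,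
          relIndex_bot_left, mul_comm]
        exact Nat.mul_le_mul_right _ hrel
      obtain ⟨F, hFc, hxF, hFM⟩ := exists_between hU hcard
        (sup_le (frattini_le_coatom hM) (zpowers_le.2 hx)) (hmax M hM).1
      exact hFM ((hinv F (Or.inl hFc)).le ⟨x, hxF (mem_sup_right (mem_zpowers x)), rfl⟩)
  -- step 4: elements of small order lie in the Frattini subgroup
  have hsmall : ∀ x : U, (orderOf x ≤ p ^ j ∨ (p ^ j = 2 ∧ orderOf x ≤ 4)) → x ∈ frattini U := by
    intro x hx
    by_cases hx' : orderOf x ≤ p ^ j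
    · obtain ⟨E, hEc, hxE, -⟩ := exists_between hU (H := zpowers x) (by rwa [Nat.card_zpowers])
        le_top (by rw [card_top]; exact hd.le)
      refine hE E (Or.inl hEc) ?_ (hxE (mem_zpowers x))
      rintro rfl
      rw [card_top] at hEc
      omega
    · obtain ⟨hj2, hx4⟩ := hx.resolve_left hx'
      obtain ⟨a, ha⟩ := hU.to_subgroup (zpowers x) |>.exists_card_eq
      rw [Nat.card_zpowers] at ha
      have hp2 : p = 2 := by
        have h1 := Nat.le_self_pow (by omega : j ≠ 0) p
        have h2 := hp.out.two_le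
        omega
      have hord : orderOf x = 4 := by
        rw [hj2] at hx'
        rcases a with _ | _ | _ | a
        · rw [ha, pow_zero] at hx'; omega
        · rw [ha, hp2] at hx'; norm_num at hx'
        · rw [ha, hp2]; norm_num
        · rw [ha, hp2] at hx4
          have : 2 ^ 3 ≤ 2 ^ (a + 1 + 1 + 1) := Nat.pow_le_pow_right (by norm_num : 0 < 2) (by omega)
          omega
      refine hE (zpowers x) (Or.inr ⟨hj2, by rw [Nat.card_zpowers, hord]⟩) ?_ (mem_zpowers x)
      intro htop
      -- a cyclic group of order 4 has a single maximal subgroup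
      haveI : IsCyclic U := ⟨⟨x, fun y => (htop ▸ mem_top y : y ∈ zpowers x)⟩⟩
      have hc4 : Nat.card U = 4 := by rw [← card_top (G := U), ← htop, Nat.card_zpowers, hord]
      have hA : Nat.card (MulAut U) = 2 := by rw [IsCyclic.card_mulAut, hc4]; rfl
      have h1 : orderOf α ∣ Nat.gcd (orderOf α) 2 := Nat.dvd_gcd dvd_rfl (hA ▸ orderOf_dvd_natCard α)
      rw [← hp2, hαp, Nat.dvd_one, orderOf_eq_one_iff] at h1
      exact hne h1
  -- step 5: the Frattini subgroup is centralised
  have hΦge : p ^ j ≤ Nat.card (frattini U) := by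
    obtain ⟨E, hEc, -, -⟩ := exists_between (j := j) hU (H := (⊥ : Subgroup U))
      (by rw [card_bot]; exact Nat.one_le_pow _ _ hp.out.pos) le_top (by rw [card_top]; exact hd.le)
    rw [← hEc]
    refine card_le_of_le (hE E (Or.inl hEc) ?_)
    rintro rfl
    rw [card_top] at hEc
    omega
  have hΦfix : ∀ y ∈ frattini U, α y = y := by
    rcases hΦge.lt_or_eq with hlt | heq
    · exact hfix _ hΦne hlt hinvΦ
    · -- `Φ` is the only subgroup of its order, so it is cyclic
      obtain ⟨x, hx⟩ := SetLike.exists_of_lt (lt_top_iff_ne_top.2 hΦne)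
      have hxord : p ^ j ≤ Nat.card (zpowers x) := by
        rw [Nat.card_zpowers]
        by_contra h
        exact hx.2 (hsmall x (Or.inl (not_le.1 h).le))
      obtain ⟨F, hFc, -, hFx⟩ := exists_between (j := j) hU (H := (⊥ : Subgroup U))
        (by rw [card_bot]; exact Nat.one_le_pow _ _ hp.out.pos) (M := zpowers x) bot_le hxord
      have hFΦ : F = frattini U := eq_of_le_of_card_ge (hE F (Or.inl hFc) fun h => hx.2 (by
        rw [h, top_le_iff] at hFx
        exact absurd hFc (by rw [h, card_top]; omega))) (by rw [hFc, ← heq])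
      have hcyc : IsCyclic (frattini U) := by
        haveI : IsCyclic ((frattini U).subgroupOf (zpowers x)) := inferInstance
        exact isCyclic_of_surjective _ (subgroupOfEquivOfLe (hFΦ ▸ hFx : frattini U ≤ zpowers x)).surjective
      let β : MulAut (frattini U) := (α.subgroupMap _).trans (MulEquiv.subgroupCongr hinvΦ)
      have hβ : ∀ y : frattini U, ((β y : frattini U) : U) = α y := fun _ => rfl
      have hord : orderOf β ∣ orderOf α := by
        refine orderOf_dvd_of_pow_eq_one (MulEquiv.ext fun y => Subtype.ext ?_)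
        have : ∀ n : ℕ, (((β ^ n) y : frattini U) : U) = (α ^ n) (y : U) := by
          intro n
          induction n with
          | zero => rfl
          | succ n ih' => rw [pow_succ', MulAut.mul_apply, hβ, ih', pow_succ', MulAut.mul_apply]
        rw [this, pow_orderOf_eq_one]; rfl
      have h2 : orderOf β ∣ (p ^ j).totient := by
        rw [heq, ← IsCyclic.card_mulAut]; exact orderOf_dvd_natCard β
      rw [Nat.totient_prime_pow hp.out hj] at h2
      have h3 : (orderOf β).Coprime (p ^ (j - 1) * (p - 1)) :=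
        ((Nat.Coprime.coprime_dvd_left hord hαp).pow_right _).mul_right
          (Nat.Coprime.coprime_dvd_left hord hαp1)
      have hβ1 : β = 1 := orderOf_eq_one_iff.1 (Nat.Coprime.eq_one_of_dvd h3 h2)
      intro y hy
      have := hβ ⟨y, hy⟩
      rw [hβ1] at this
      exact this.symm
  -- step 6: `Φ` is central
  have hcen : ∀ y ∈ frattini U, ∀ u, u * y = y * u := by
    intro y hy u
    have : Subgroup.closure (Set.range fun u => α u * u⁻¹) ≤ centralizer (frattini U : Set U) := by
      rw [closure_le]
      rintro _ ⟨v, rfl⟩ z hz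
      have hw : v * (v⁻¹ * z * v) * v⁻¹ = z := by group
      have hwΦ : v⁻¹ * z * v ∈ frattini U := by simpa using hΦn.conj_mem z hz v⁻¹
      have h2 := congrArg α hw
      rw [map_mul, map_mul, map_inv, hΦfix _ hwΦ, hΦfix _ hz] at h2
      show z * (α v * v⁻¹) = α v * v⁻¹ * z
      conv_lhs => rw [← h2]
      group
    rw [hD] at this
    exact ((mem_centralizer_iff.1 (this (mem_top u))) y hy).symm
  -- step 7: `u ↦ u ^ e` is a homomorphism into `Φ`
  set e := if p = 2 then 4 else p with he
  have hpe : p ∣ e := by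
    rw [he]; split
    · next h => rw [h]; norm_num
    · exact dvd_rfl
  have hcommp : ∀ a b : U, (a * b * a⁻¹ * b⁻¹) ^ p = 1 := by
    intro a b
    set c := a * b * a⁻¹ * b⁻¹ with hc
    have hcΦ : c ∈ frattini U := by
      have := PGroups.commutatorElement_mem_frattini hU a b
      rwa [commutatorElement_def] at this
    have h1 : a * b = c * (b * a) := by rw [hc]; group
    have h2 : ∀ n : ℕ, a ^ n * b = c ^ n * (b * a ^ n) := by
      intro n
      induction n with
      | zero => simp
      | succ n ihn =>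
        calc a ^ (n + 1) * b = a ^ n * (a * b) := by rw [pow_succ, mul_assoc]
          _ = a ^ n * (c * (b * a)) := by rw [h1]
          _ = c * (a ^ n * b * a) := by
            rw [← mul_assoc (a ^ n), hcen c hcΦ (a ^ n)]; group
          _ = c * (c ^ n * (b * a ^ n) * a) := by rw [ihn]
          _ = c ^ (n + 1) * (b * a ^ (n + 1)) := by rw [pow_succ', pow_succ]; group
    have h3 := h2 p
    rw [hcen _ (PGroups.pow_mem_frattini hU a) b] at h3
    exact mul_eq_right.1 h3.symm
  have hmulpow : ∀ a b : U, (a * b) ^ e = a ^ e * b ^ e := by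
    intro a b
    set c := b * a * b⁻¹ * a⁻¹ with hc
    have hcΦ : c ∈ frattini U := by
      have := PGroups.commutatorElement_mem_frattini hU b a
      rwa [commutatorElement_def] at this
    have hcc : ∀ u, c * u = u * c := fun u => (hcen c hcΦ u).symm
    have hba : ∀ n : ℕ, b ^ n * a = c ^ n * (a * b ^ n) := by
      intro n
      induction n with
      | zero => simp
      | succ n ihn =>
        have h1 : b * a = c * (a * b) := by rw [hc]; group
        calc b ^ (n + 1) * a = b ^ n * (b * a) := by rw [pow_succ, mul_assoc]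
          _ = b ^ n * c * (a * b) := by rw [h1]; exact (mul_assoc _ _ _).symm
          _ = c * (b ^ n * a) * b := by rw [← hcc (b ^ n)]; group
          _ = c * (c ^ n * (a * b ^ n)) * b := by rw [ihn]
          _ = c ^ (n + 1) * (a * b ^ (n + 1)) := by rw [pow_succ', pow_succ]; group
    have key : ∀ n : ℕ, (a * b) ^ n = c ^ (n.choose 2) * (a ^ n * b ^ n) := by
      intro n
      induction n with
      | zero => simp
      | succ n ihn =>
        have hcn : ∀ (m : ℕ) u, c ^ m * u = u * c ^ m := fun m u => (Commute.pow_left (hcc u) m).eq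
        calc (a * b) ^ (n + 1) = c ^ (n.choose 2) * (a ^ n * (b ^ n * a) * b) := by
              rw [pow_succ, ihn]; group
          _ = c ^ (n.choose 2) * (a ^ n * c ^ n * (a * b ^ n) * b) := by rw [hba]; group
          _ = c ^ (n.choose 2) * (c ^ n * a ^ n * (a * b ^ n) * b) := by rw [hcn n (a ^ n)]
          _ = c ^ ((n + 1).choose 2) * (a ^ (n + 1) * b ^ (n + 1)) := by
              rw [Nat.choose_succ_succ' n 1, Nat.choose_one_right, add_comm n, pow_add, pow_succ,
                pow_succ b]
              group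
    rw [key, show c ^ (e.choose 2) = 1 from ?_, one_mul]
    have hcp : c ^ p = 1 := hcommp b a
    have hdvd : p ∣ e.choose 2 := by
      rw [he]; split
      · next h => rw [h]; decide
      · next h => exact hp.out.dvd_choose_self (by norm_num) (lt_of_le_of_ne hp.out.two_le (Ne.symm h))
    obtain ⟨k, hk⟩ := hdvd
    rw [hk, pow_mul, hcp, one_pow]
  let P : U →* U := MonoidHom.mk' (fun u => u ^ e) hmulpow
  have hP : P.ker = ⊤ := by
    rw [eq_top_iff, ← hD, closure_le]
    rintro _ ⟨u, rfl⟩
    show (α u * u⁻¹) ^ e = 1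
    obtain ⟨k, hk⟩ := hpe
    rw [hmulpow, inv_pow, ← map_pow, hΦfix (u ^ e) (by rw [hk, pow_mul]; exact pow_mem (PGroups.pow_mem_frattini hU u) k),
      mul_inv_cancel]
  refine hΦne (eq_top_iff.2 fun u _ => hsmall u ?_)
  have hu : orderOf u ∣ e := orderOf_dvd_of_pow_eq_one (hP.ge (mem_top u))
  by_cases h2 : p = 2
  · rw [he, if_pos h2] at hu
    have h4 := Nat.le_of_dvd (by norm_num) hu
    by_cases hj1 : j = 1
    · exact Or.inr ⟨by rw [h2, hj1]; rfl, h4⟩
    · refine Or.inl (h4.trans ?_)
      rw [h2]
      exact (by norm_num : (4 : ℕ) ≤ 2 ^ 2).trans (Nat.pow_le_pow_right (by norm_num) (by omega))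
  · rw [he, if_neg h2] at hu
    exact Or.inl ((Nat.le_of_dvd hp.out.pos hu).trans (Nat.le_self_pow (by omega) p))

/-- Main result. -/
theorem eq_one (hU : IsPGroup p U) (α : MulAut U) (hαp : (orderOf α).Coprime p)
    (hαp1 : (orderOf α).Coprime (p - 1)) {j : ℕ} (hj : 1 ≤ j) (hd : p ^ j < Nat.card U)
    (hinv : ∀ E : Subgroup U, (Nat.card E = p ^ j ∨ (p ^ j = 2 ∧ Nat.card E = 4)) →
      E.map α.toMonoidHom = E) : α = 1 :=
  eq_one_aux j hj _ U rfl hU α hαp hαp1 hd hinv

end Cfsg.Agent.Lib.LA5.HSub.Core
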