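import Cfsg.Agent.Lib.LA5.HSub.Core

/-!
# A coprime group fixing all subgroups of one order of a `p`-group

If a `p'`-group `A` fixes all subgroups of order `p ^ j` (and 4 if `p ^ j = 2`) of a larger `p`-group `U`, every
element of `A` that is killed by all homomorphisms into unit groups of `ZMod (p ^ n)` acts trivially on `U`.
-/

set_option autoImplicit false

namespace Cfsg.Agent.Lib.LA5.HSub.Action

open Subgroup

variable {p : ℕ} [hp : Fact p.Prime]

/-- `b` lies in the kernel of every homomorphism from `A` to `(ZMod (p ^ n))ˣ`. -/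
def Killed (p : ℕ) (A : Type*) [Group A] (b : A) : Prop :=
  ∀ (n : ℕ) (f : A →* (ZMod (p ^ n))ˣ), f b = 1

/-- In a `p'`-group commutators are killed. -/
theorem killed_commutator {A : Type*} [Group A] (a b : A) : Killed p A (a * b * a⁻¹ * b⁻¹) := by
  intro n f
  simp only [map_mul, map_inv, mul_comm (f a) (f b)]
  group

/-- In a `p'`-group `(p - 1)`-th powers are killed. -/
theorem killed_pow {A : Type*} [Group A] (a : A) (ha : (orderOf a).Coprime p) :
    Killed p A (a ^ (p - 1)) := by
  intro n f
  rw [map_pow, ← orderOf_dvd_iff_pow_eq_one]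
  have h1 : orderOf (f a) ∣ (p ^ n).totient := by
    rw [← ZMod.card_units_eq_totient (p ^ n), ← Nat.card_eq_fintype_card]
    exact orderOf_dvd_natCard _
  have h2 : (orderOf (f a)).Coprime p := Nat.Coprime.coprime_dvd_left (orderOf_map_dvd f a) ha
  rcases Nat.eq_zero_or_pos n with rfl | hn
  · exact h1.trans (by simp)
  · rw [Nat.totient_prime_pow hp.out hn] at h1
    exact (h2.pow_right _).dvd_of_dvd_mul_left h1

/-- Restriction of an action to an invariant subgroup. -/
def restrict {A U : Type*} [Group A] [Group U] (φ : A →* MulAut U) (R : Subgroup U)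
    (hR : ∀ a, R.map (φ a).toMonoidHom = R) : A →* MulAut R :=
  MonoidHom.mk' (fun a => ((φ a).subgroupMap R).trans (MulEquiv.subgroupCongr (hR a))) fun a b =>
    MulEquiv.ext fun x => Subtype.ext (by
      show φ (a * b) (x : U) = φ a (φ b x)
      rw [map_mul]; rfl)

theorem restrict_apply {A U : Type*} [Group A] [Group U] (φ : A →* MulAut U) (R : Subgroup U)
    (hR : ∀ a, R.map (φ a).toMonoidHom = R) (a : A) (x : R) :
    ((restrict φ R hR a x : R) : U) = φ a x := rfl

theorem killed_fixes_cyclic {A U : Type*} [Group A] [Group U] [Finite U] [IsCyclic U] {n : ℕ}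
    (hU : Nat.card U = p ^ n) (φ : A →* MulAut U) {b : A} (hb : Killed p A b) : φ b = 1 := by
  let e : (ZMod (Nat.card U))ˣ ≃* (ZMod (p ^ n))ˣ :=
    Units.mapEquiv (ZMod.ringEquivCongr hU).toMulEquiv
  let f : A →* (ZMod (p ^ n))ˣ :=
    (e.toMonoidHom.comp (IsCyclic.mulAutMulEquiv U).toMonoidHom).comp φ
  have h : e (IsCyclic.mulAutMulEquiv U (φ b)) = 1 := hb n f
  rwa [MulEquiv.map_eq_one_iff, MulEquiv.map_eq_one_iff] at h

theorem fixes_aux (j : ℕ) (hj : 1 ≤ j) :
    ∀ (N : ℕ) (A : Type _) [Group A] [Finite A] (U : Type _) [Group U] [Finite U], Nat.card U = N →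
      IsPGroup p U → (Nat.card A).Coprime p → ∀ φ : A →* MulAut U, p ^ j < Nat.card U →
      (∀ E : Subgroup U, (Nat.card E = p ^ j ∨ (p ^ j = 2 ∧ Nat.card E = 4)) →
        ∀ a, E.map (φ a).toMonoidHom = E) → ∀ b, Killed p A b → φ b = 1 := by
  intro N
  induction N using Nat.strong_induction_on with | _ N ih => ?_
  intro A _ _ U _ _ hN hU hA φ hd hinv b hb
  classical
  by_contra hne
  have hordb : ∀ a : A, (orderOf (φ a)).Coprime p := fun a =>
    Nat.Coprime.coprime_dvd_left ((orderOf_map_dvd φ a).trans (orderOf_dvd_natCard a)) hA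
  have hmax : ∀ M : Subgroup U, IsCoatom M → p ^ j ≤ Nat.card M ∧ M.Normal ∧ M.index = p := by
    intro M hM
    refine ⟨?_, PGroups.coatom_normal hU hM, PGroups.coatom_index hU hM⟩
    obtain ⟨a, ha⟩ := hU.exists_card_eq
    have h1 := M.card_mul_index
    rw [PGroups.coatom_index hU hM] at h1
    rw [ha, Nat.pow_lt_pow_iff_right hp.out.one_lt] at hd
    refine Nat.le_of_mul_le_mul_right ?_ hp.out.pos
    rw [h1, ha, ← pow_succ]
    exact Nat.pow_le_pow_right hp.out.pos hd
  -- not all maximal subgroups are invariant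
  have hstep1 : ¬ ∀ M : Subgroup U, IsCoatom M → ∀ a, M.map (φ a).toMonoidHom = M := by
    intro hall
    refine hne (Core.eq_one_of_mod (φ b) hU (hordb b) (N := frattini U) (fun u => ?_) (Or.inr le_rfl))
    simp only [frattini, Order.radical, Subgroup.mem_iInf]
    intro M hM
    obtain ⟨-, hn, hi⟩ := hmax M hM
    haveI := hn
    haveI : IsCyclic (U ⧸ M) := isCyclic_of_prime_card (p := p) (index_eq_card M ▸ hi)
    let ψ : A →* MulAut (U ⧸ M) := MonoidHom.mk' (fun a => QuotientGroup.congr M M (φ a) (hall M hM a))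
      fun a c => MulEquiv.ext fun q => by
        induction q using QuotientGroup.induction_on with | _ x => ?_
        show ((φ (a * c) x : U) : U ⧸ M) = ((φ a (φ c x) : U) : U ⧸ M)
        rw [map_mul]; rfl
    have h1 := killed_fixes_cyclic (n := 1) (by rw [pow_one, ← index_eq_card, hi]) ψ hb
    have h2 : ((φ b u : U) : U ⧸ M) = ((u : U) : U ⧸ M) := DFunLike.congr_fun h1 (u : U ⧸ M)
    rw [← QuotientGroup.eq_one_iff]
    show ((φ b u : U) : U ⧸ M) * ((u : U) : U ⧸ M)⁻¹ = 1
    rw [h2, mul_inv_cancel]
  have hinvΦ : ∀ a, (frattini U).map (φ a).toMonoidHom = frattini U := fun a =>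
    eq_of_le_of_card_ge (map_le_iff_le_comap.2 (frattini_le_comap_frattini_of_surjective (φ a).surjective))
      (card_map_of_injective (φ a).injective).ge
  -- hence the Frattini subgroup is not small
  have hΦge : p ^ j ≤ Nat.card (frattini U) := by
    by_contra hlt
    rw [not_le] at hlt
    apply hstep1
    intro M hM a
    refine eq_of_le_of_card_ge ?_ (card_map_of_injective (φ a).injective).ge
    rintro _ ⟨x, hx, rfl⟩
    have hxp : x ^ p ∈ frattini U := PGroups.pow_mem_frattini hU x
    have hcard : Nat.card (frattini U ⊔ zpowers x : Subgroup U) ≤ p ^ j := by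
      obtain ⟨c, hc⟩ := (hU.to_subgroup (frattini U)).exists_card_eq
      rw [hc, Nat.pow_lt_pow_iff_right hp.out.one_lt] at hlt
      refine le_trans ?_ (Nat.pow_le_pow_right hp.out.pos hlt)
      have hrel : (frattini U).relIndex (frattini U ⊔ zpowers x) ≤ p := by
        rw [relIndex_sup_left]
        refine Nat.le_of_dvd hp.out.pos ?_
        rw [relIndex, index_eq_card]
        haveI : IsCyclic (zpowers x ⧸ (frattini U).subgroupOf (zpowers x)) :=
          isCyclic_of_surjective _ (QuotientGroup.mk'_surjective _)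
        obtain ⟨g, hg⟩ := IsCyclic.exists_generator (α := zpowers x ⧸ (frattini U).subgroupOf (zpowers x))
        rw [← orderOf_eq_card_of_forall_mem_zpowers hg]
        obtain ⟨⟨y, hy⟩, rfl⟩ := QuotientGroup.mk'_surjective _ g
        refine orderOf_dvd_of_pow_eq_one ((QuotientGroup.eq_one_iff _).2 ?_)
        obtain ⟨n, rfl⟩ := mem_zpowers_iff.1 hy
        show (x ^ n) ^ p ∈ frattini U
        rw [← zpow_natCast, ← zpow_mul, mul_comm, zpow_mul, zpow_natCast]
        exact zpow_mem hxp n
      rw [← relIndex_bot_left, ← relIndex_mul_relIndex ⊥ (frattini U) _ bot_le le_sup_left,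
        relIndex_bot_left, hc, pow_succ]
      exact Nat.mul_le_mul_left _ hrel
    obtain ⟨F, hFc, hxF, hFM⟩ := Core.exists_between hU hcard
      (sup_le (frattini_le_coatom hM) (zpowers_le.2 hx)) (hmax M hM).1
    exact hFM ((hinv F (Or.inl hFc) a).le ⟨x, hxF (mem_sup_right (mem_zpowers x)), rfl⟩)
  -- invariant proper subgroups above the given order are centralised by `b`
  have hfix : ∀ R : Subgroup U, R ≠ ⊤ → p ^ j < Nat.card R → (∀ a, R.map (φ a).toMonoidHom = R) →
      ∀ x ∈ R, φ b x = x := by
    intro R hRt hRd hR x hx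
    have hlt : Nat.card R < N := hN ▸ lt_of_le_of_ne
      (Nat.le_of_dvd Nat.card_pos (card_subgroup_dvd_card R))
      (fun e => hRt (eq_top_of_card_eq R e))
    have := ih _ hlt A R rfl (hU.to_subgroup R) hA (restrict φ R hR) hRd (fun E hE a => ?_) b hb
    · rw [← restrict_apply φ R hR b ⟨x, hx⟩, this]; rfl
    · have h1 := hinv (E.map R.subtype) (by rwa [card_map_of_injective R.subtype_injective]) a
      apply map_injective R.subtype_injective
      conv_rhs => rw [← h1]
      rw [map_map, map_map]
      rfl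
  have hΦne : frattini U ≠ ⊤ := by
    intro h
    obtain ⟨M, hM, -⟩ := (eq_top_or_exists_le_coatom (⊥ : Subgroup U)).resolve_left (fun hb' => by
      have : Nat.card U = 1 := by rw [← card_top (G := U), ← hb', card_bot]
      have := Nat.one_le_pow j p hp.out.pos
      omega)
    exact hM.1 (eq_top_iff.2 (h ▸ frattini_le_coatom hM))
  -- the killed elements generate a normal set, and their commutators with `U` generate `U`
  let B : Subgroup A :=
    { carrier := {c | Killed p A c}
      one_mem' := fun n f => map_one f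
      mul_mem' := fun {c d} hc hd' n f => by rw [map_mul, hc n f, hd' n f, one_mul]
      inv_mem' := fun {c} hc n f => by rw [map_inv, hc n f, inv_one] }
  have hBconj : ∀ a c, c ∈ B → a * c * a⁻¹ ∈ B := fun a c hc n f => by
    rw [map_mul, map_mul, map_inv, hc n f, mul_one, mul_inv_cancel]
  set gen : Set U := {y | ∃ c ∈ B, ∃ u, y = φ c u * u⁻¹} with hgen
  have hD : closure gen ⊔ frattini U = ⊤ := by
    by_contra hDt
    have hinvD : ∀ a, (closure gen ⊔ frattini U).map (φ a).toMonoidHom = closure gen ⊔ frattini U := by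
      intro a
      refine eq_of_le_of_card_ge ?_ (card_map_of_injective (φ a).injective).ge
      rw [Subgroup.map_sup, hinvΦ, MonoidHom.map_closure]
      refine sup_le_sup_right ((closure_le _).2 ?_) _
      rintro _ ⟨_, ⟨c, hc, u, rfl⟩, rfl⟩
      refine subset_closure ⟨a * c * a⁻¹, hBconj a c hc, φ a u, ?_⟩
      simp [map_mul, map_inv, MulAut.mul_apply]
    by_cases hΦD : closure gen ≤ frattini U
    · exact hne (Core.eq_one_of_mod (φ b) hU (hordb b) (N := frattini U)
        (fun u => hΦD (subset_closure ⟨b, hb, u, rfl⟩)) (Or.inr le_rfl))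
    · have hlt : p ^ j < Nat.card (closure gen ⊔ frattini U : Subgroup U) := by
        refine lt_of_le_of_lt hΦge (lt_of_le_of_ne (card_le_of_le le_sup_right) fun h => hΦD ?_)
        exact le_sup_left.trans (eq_of_le_of_card_ge le_sup_right h.ge).ge
      refine hne (MulEquiv.ext fun u => ?_)
      set c := φ b u * u⁻¹ with hc
      have hcfix : φ b c = c := hfix _ hDt hlt hinvD c (mem_sup_left (subset_closure ⟨b, hb, u, rfl⟩))
      have hn : ∀ n : ℕ, (φ b ^ n) u = c ^ n * u := by
        intro n
        induction n with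
        | zero => simp
        | succ n ihn =>
          rw [pow_succ', MulAut.mul_apply, ihn, map_mul, map_pow, hcfix, pow_succ, mul_assoc]
          rw [hc, inv_mul_cancel_right]
      have h1 := hn (orderOf (φ b))
      rw [pow_orderOf_eq_one] at h1
      have h2 : orderOf c ∣ orderOf (φ b) := orderOf_dvd_of_pow_eq_one (mul_eq_right.1 h1.symm)
      obtain ⟨k, hk⟩ := hU (c)
      have h3 : orderOf c ∣ p ^ k := orderOf_dvd_of_pow_eq_one hk
      have : c = 1 := orderOf_eq_one_iff.1
        (Nat.eq_one_of_dvd_coprimes ((hordb b).pow_right k) h2 h3)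
      exact mul_inv_eq_one.1 this
  -- fixed points on the Frattini quotient are trivial
  have hnofix : ∀ u, (∀ c ∈ B, φ c u * u⁻¹ ∈ frattini U) → u ∈ frattini U := by
    obtain ⟨hVc, -⟩ := PGroups.frattiniQuotient_elemAb hU
    let iV : CommGroup (U ⧸ frattini U) :=
      { (inferInstance : Group (U ⧸ frattini U)) with
        mul_comm := fun a c => congrArg Subtype.val
          (hVc.is_comm.comm (⟨a, mem_top _⟩ : (⊤ : Subgroup (U ⧸ frattini U))) ⟨c, mem_top _⟩) }
    let f : U →* U ⧸ frattini U := QuotientGroup.mk' (frattini U)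
    have hf : ∀ {y}, f y = 1 ↔ y ∈ frattini U := fun {y} => QuotientGroup.eq_one_iff y
    haveI := Fintype.ofFinite B
    let T : U →* U ⧸ frattini U :=
      MonoidHom.mk' (fun u => ∏ c : B, f (φ (c : A) u)) fun u v => by
        simp only [map_mul, Finset.prod_mul_distrib]
    have hTgen : closure gen ≤ T.ker := by
      rw [closure_le]
      rintro _ ⟨c, hc, u, rfl⟩
      show T (φ c u * u⁻¹) = 1
      rw [map_mul, map_inv, mul_inv_eq_one]
      show ∏ d : B, f (φ (d : A) (φ c u)) = ∏ d : B, f (φ (d : A) u)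
      exact Fintype.prod_equiv (Equiv.mulRight (⟨c, hc⟩ : B)) _ _ fun d => by simp [MulAut.mul_apply]
    have hTΦ : frattini U ≤ T.ker := fun y hy => Finset.prod_eq_one fun c _ =>
      hf.2 ((hinvΦ (c : A)).le ⟨y, hy, rfl⟩)
    have hT : T.ker = ⊤ := top_le_iff.1 (hD ▸ sup_le hTgen hTΦ)
    intro u hu
    have h1 : T u = f u ^ Fintype.card B := by
      show ∏ c : B, f (φ (c : A) u) = _
      rw [Finset.prod_congr rfl (g := fun _ => f u) fun c _ => ?_, Finset.prod_const, Finset.card_univ]
      rw [← mul_inv_eq_one, ← map_inv, ← map_mul]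
      exact hf.2 (hu c c.2)
    rw [show T u = 1 from hT.ge (mem_top u), eq_comm] at h1
    obtain ⟨k, hk⟩ := hU u
    have h2 : orderOf (f u) ∣ p ^ k := orderOf_dvd_of_pow_eq_one (by rw [← map_pow, hk, map_one])
    have h3 : (Fintype.card B).Coprime p := by
      rw [← Nat.card_eq_fintype_card]
      exact Nat.Coprime.coprime_dvd_left (card_subgroup_dvd_card B) hA
    exact hf.1 (orderOf_eq_one_iff.1
      (Nat.eq_one_of_dvd_coprimes (h3.pow_right k) (orderOf_dvd_of_pow_eq_one h1) h2))
  -- subgroups of the given orders are centralised or inside the Frattini subgroup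
  have hE : ∀ E : Subgroup U, (Nat.card E = p ^ j ∨ (p ^ j = 2 ∧ Nat.card E = 4)) → E ≠ ⊤ →
      E ≤ frattini U := by
    intro E hEc hEt
    by_contra hEΦ
    obtain ⟨e, he, heΦ⟩ := SetLike.not_le_iff_exists.1 hEΦ
    have hlt : p ^ j < Nat.card (E ⊔ frattini U : Subgroup U) := by
      refine lt_of_le_of_lt hΦge (lt_of_le_of_ne (card_le_of_le le_sup_right) fun h => hEΦ ?_)
      exact le_sup_left.trans (eq_of_le_of_card_ge le_sup_right h.ge).ge
    refine heΦ (hnofix e fun c hc => ?_)
    have hR : ∀ a, (E ⊔ frattini U).map (φ a).toMonoidHom = E ⊔ frattini U := fun a => by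
      rw [Subgroup.map_sup, hinv E hEc a, hinvΦ]
    have : Nat.card (E ⊔ frattini U : Subgroup U) < N := hN ▸ lt_of_le_of_ne
      (Nat.le_of_dvd Nat.card_pos (card_subgroup_dvd_card _))
      (fun h => hEt (frattini_nongenerating (eq_top_of_card_eq _ h)))
    have h1 := ih _ this A _ rfl (hU.to_subgroup _) hA (restrict φ _ hR) hlt (fun F hF a => by
      have h1 := hinv (F.map (E ⊔ frattini U).subtype)
        (by rwa [card_map_of_injective (E ⊔ frattini U).subtype_injective]) a
      apply map_injective (E ⊔ frattini U).subtype_injective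
      conv_rhs => rw [← h1]
      rw [map_map, map_map]
      rfl) c hc
    have h2 : φ c e = e := by
      rw [← restrict_apply φ _ hR c ⟨e, mem_sup_left he⟩, h1]; rfl
    rw [h2, mul_inv_cancel]
    exact one_mem _
  have hsmall : ∀ x : U, (orderOf x ≤ p ^ j ∨ (p ^ j = 2 ∧ orderOf x = 4)) → x ∈ frattini U := by
    intro x hx
    rcases hx with hx | ⟨h2, h4⟩
    · obtain ⟨E, hEc, hxE, -⟩ := Core.exists_between hU (H := zpowers x) (by rwa [Nat.card_zpowers])
        le_top (by rw [card_top]; exact hd.le)
      refine hE E (Or.inl hEc) ?_ (hxE (mem_zpowers x))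
      rintro rfl
      rw [card_top] at hEc
      omega
    · refine hE (zpowers x) (Or.inr ⟨h2, by rw [Nat.card_zpowers, h4]⟩) ?_ (mem_zpowers x)
      intro htop
      haveI : IsCyclic U := ⟨⟨x, fun y => (htop ▸ mem_top y : y ∈ zpowers x)⟩⟩
      obtain ⟨n, hn⟩ := hU.exists_card_eq
      exact hne (killed_fixes_cyclic hn φ hb)
  have hΦfix : ∀ c ∈ B, ∀ y ∈ frattini U, φ c y = y := by
    intro c hc
    rcases hΦge.lt_or_eq with hlt | heq
    · intro y hy
      have hlt' : Nat.card (frattini U) < N := hN ▸ lt_of_le_of_ne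
        (Nat.le_of_dvd Nat.card_pos (card_subgroup_dvd_card _))
        (fun h => hΦne (eq_top_of_card_eq _ h))
      have h1 := ih _ hlt' A _ rfl (hU.to_subgroup _) hA (restrict φ _ hinvΦ) hlt (fun F hF a => by
        have h1 := hinv (F.map (frattini U).subtype)
          (by rwa [card_map_of_injective (frattini U).subtype_injective]) a
        apply map_injective (frattini U).subtype_injective
        conv_rhs => rw [← h1]
        rw [map_map, map_map]
        rfl) c hc
      rw [← restrict_apply φ _ hinvΦ c ⟨y, hy⟩, h1]; rfl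
    · obtain ⟨x, hx⟩ := SetLike.exists_of_lt (lt_top_iff_ne_top.2 hΦne)
      have hxord : p ^ j ≤ Nat.card (zpowers x) := by
        rw [Nat.card_zpowers]
        by_contra h
        exact hx.2 (hsmall x (Or.inl (not_le.1 h).le))
      obtain ⟨F, hFc, -, hFx⟩ := Core.exists_between (j := j) hU (H := (⊥ : Subgroup U))
        (by rw [card_bot]; exact Nat.one_le_pow _ _ hp.out.pos) (M := zpowers x) bot_le hxord
      have hFΦ : F = frattini U := eq_of_le_of_card_ge (hE F (Or.inl hFc) fun h => by
        rw [h, card_top] at hFc; omega) (by rw [hFc, ← heq])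
      haveI : IsCyclic ((frattini U).subgroupOf (zpowers x)) := inferInstance
      haveI : IsCyclic (frattini U) :=
        isCyclic_of_surjective _ (subgroupOfEquivOfLe (hFΦ ▸ hFx : frattini U ≤ zpowers x)).surjective
      intro y hy
      rw [← restrict_apply φ _ hinvΦ c ⟨y, hy⟩, killed_fixes_cyclic heq.symm (restrict φ _ hinvΦ) hc]
      rfl
  have hcen : ∀ y ∈ frattini U, ∀ u, u * y = y * u := by
    intro y hy u
    have hg : closure gen ≤ centralizer (frattini U : Set U) := by
      rw [closure_le]
      rintro _ ⟨c, hc, v, rfl⟩ z hz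
      have hw : v * (v⁻¹ * z * v) * v⁻¹ = z := by group
      have hwΦ : v⁻¹ * z * v ∈ frattini U := by
        simpa using (inferInstance : (frattini U).Normal).conj_mem z hz v⁻¹
      have h2 := congrArg (φ c) hw
      rw [map_mul, map_mul, map_inv, hΦfix c hc _ hwΦ, hΦfix c hc _ hz] at h2
      show z * (φ c v * v⁻¹) = φ c v * v⁻¹ * z
      conv_lhs => rw [← h2]
      group
    have htop : centralizer (frattini U : Set U) = ⊤ :=
      frattini_nongenerating (eq_top_iff.2 (hD ▸ sup_le_sup_right hg _))
    exact ((mem_centralizer_iff.1 (htop ▸ mem_top u : u ∈ centralizer (frattini U : Set U))) y hy).symm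
  -- step 7: `u ↦ u ^ e` is a homomorphism into `Φ`
  set e := if p = 2 then 4 else p with he
  have hpe : p ∣ e := by
    rw [he]; split
    · next h => rw [h]; norm_num
    · exact dvd_rfl
  have hcommp : ∀ a b : U, (a * b * a⁻¹ * b⁻¹) ^ p = 1 := by
    intro a b
    set c := a * b * a⁻¹ * b⁻¹ with hc
    have hcΦ : c ∈ frattini U := by
      have := PGroups.commutatorElement_mem_frattini hU a b
      rwa [commutatorElement_def] at this
    have h1 : a * b = c * (b * a) := by rw [hc]; group
    have h2 : ∀ n : ℕ, a ^ n * b = c ^ n * (b * a ^ n) := by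
      intro n
      induction n with
      | zero => simp
      | succ n ihn =>
        calc a ^ (n + 1) * b = a ^ n * (a * b) := by rw [pow_succ, mul_assoc]
          _ = a ^ n * (c * (b * a)) := by rw [h1]
          _ = c * (a ^ n * b * a) := by
            rw [← mul_assoc (a ^ n), hcen c hcΦ (a ^ n)]; group
          _ = c * (c ^ n * (b * a ^ n) * a) := by rw [ihn]
          _ = c ^ (n + 1) * (b * a ^ (n + 1)) := by rw [pow_succ', pow_succ]; group
    have h3 := h2 p
    rw [hcen _ (PGroups.pow_mem_frattini hU a) b] at h3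
    exact mul_eq_right.1 h3.symm
  have hmulpow : ∀ a b : U, (a * b) ^ e = a ^ e * b ^ e := by
    intro a b
    set c := b * a * b⁻¹ * a⁻¹ with hc
    have hcΦ : c ∈ frattini U := by
      have := PGroups.commutatorElement_mem_frattini hU b a
      rwa [commutatorElement_def] at this
    have hcc : ∀ u, c * u = u * c := fun u => (hcen c hcΦ u).symm
    have hba : ∀ n : ℕ, b ^ n * a = c ^ n * (a * b ^ n) := by
      intro n
      induction n with
      | zero => simp
      | succ n ihn =>
        have h1 : b * a = c * (a * b) := by rw [hc]; group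
        calc b ^ (n + 1) * a = b ^ n * (b * a) := by rw [pow_succ, mul_assoc]
          _ = b ^ n * c * (a * b) := by rw [h1]; exact (mul_assoc _ _ _).symm
          _ = c * (b ^ n * a) * b := by rw [← hcc (b ^ n)]; group
          _ = c * (c ^ n * (a * b ^ n)) * b := by rw [ihn]
          _ = c ^ (n + 1) * (a * b ^ (n + 1)) := by rw [pow_succ', pow_succ]; group
    have key : ∀ n : ℕ, (a * b) ^ n = c ^ (n.choose 2) * (a ^ n * b ^ n) := by
      intro n
      induction n with
      | zero => simp
      | succ n ihn =>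
        have hcn : ∀ (m : ℕ) u, c ^ m * u = u * c ^ m := fun m u => (Commute.pow_left (hcc u) m).eq
        calc (a * b) ^ (n + 1) = c ^ (n.choose 2) * (a ^ n * (b ^ n * a) * b) := by
              rw [pow_succ, ihn]; group
          _ = c ^ (n.choose 2) * (a ^ n * c ^ n * (a * b ^ n) * b) := by rw [hba]; group
          _ = c ^ (n.choose 2) * (c ^ n * a ^ n * (a * b ^ n) * b) := by rw [hcn n (a ^ n)]
          _ = c ^ ((n + 1).choose 2) * (a ^ (n + 1) * b ^ (n + 1)) := by
              rw [Nat.choose_succ_succ' n 1, Nat.choose_one_right, add_comm n, pow_add, pow_succ,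
                pow_succ b]
              group
    rw [key, show c ^ (e.choose 2) = 1 from ?_, one_mul]
    have hcp : c ^ p = 1 := hcommp b a
    have hdvd : p ∣ e.choose 2 := by
      rw [he]; split
      · next h => rw [h]; decide
      · next h => exact hp.out.dvd_choose_self (by norm_num) (lt_of_le_of_ne hp.out.two_le (Ne.symm h))
    obtain ⟨k, hk⟩ := hdvd
    rw [hk, pow_mul, hcp, one_pow]
  let P : U →* U := MonoidHom.mk' (fun u => u ^ e) hmulpow
  have hPgen : P.ker = ⊤ := by
    have hg : closure gen ≤ P.ker := by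
      rw [closure_le]
      rintro _ ⟨c, hc, u, rfl⟩
      show (φ c u * u⁻¹) ^ e = 1
      obtain ⟨k, hk⟩ := hpe
      rw [hmulpow, inv_pow, ← map_pow,
        hΦfix c hc (u ^ e) (by rw [hk, pow_mul]; exact pow_mem (PGroups.pow_mem_frattini hU u) k),
        mul_inv_cancel]
    exact frattini_nongenerating (eq_top_iff.2 (hD ▸ sup_le_sup_right hg _))
  refine hΦne (eq_top_iff.2 fun u _ => hsmall u ?_)
  have hu : orderOf u ∣ e := orderOf_dvd_of_pow_eq_one (hPgen.ge (mem_top u))
  by_cases h2 : p = 2
  · rw [he, if_pos h2] at hu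
    have h4 := Nat.le_of_dvd (by norm_num) hu
    by_cases hj1 : j = 1
    · by_cases h : orderOf u = 4
      · exact Or.inr ⟨by rw [h2, hj1]; rfl, h⟩
      · refine Or.inl ?_
        rw [h2, hj1]
        rcases (Nat.dvd_prime_pow Nat.prime_two).1 (show orderOf u ∣ 2 ^ 2 from hu) with ⟨i, hi, hi'⟩
        interval_cases i <;> omega
    · refine Or.inl (h4.trans ?_)
      rw [h2]
      exact (by norm_num : (4 : ℕ) ≤ 2 ^ 2).trans (Nat.pow_le_pow_right (by norm_num) (by omega))
  · rw [he, if_neg h2] at hu
    exact Or.inl ((Nat.le_of_dvd hp.out.pos hu).trans (Nat.le_self_pow (by omega) p))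

/-- Main result. -/
theorem fixes {A U : Type*} [Group A] [Finite A] [Group U] [Finite U] (hU : IsPGroup p U)
    (hA : (Nat.card A).Coprime p) (φ : A →* MulAut U) {j : ℕ} (hj : 1 ≤ j) (hd : p ^ j < Nat.card U)
    (hinv : ∀ E : Subgroup U, (Nat.card E = p ^ j ∨ (p ^ j = 2 ∧ Nat.card E = 4)) →
      ∀ a, E.map (φ a).toMonoidHom = E) {b : A} (hb : Killed p A b) : φ b = 1 :=
  fixes_aux j hj _ A U rfl hU hA φ hd hinv b hb

end Cfsg.Agent.Lib.LA5.HSub.Action
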