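import Cfsg.Agent.Lib.LA5.Basic
import Cfsg.Agent.Lib.LA5.HSub.Core
import Cfsg.Agent.Lib.Fusion.Alperin
import Cfsg.Agent.Lib.Transfer.Tate
import Cfsg.Agent.Lib.Transfer.Frobenius

/-!
# Groups in which all `p`-subgroups of one order are strongly closed

`HSub E` is the condition `E^g ∩ N(E) ≤ E`. If `p` is the smallest prime divisor and all subgroups of one order
`p ^ j` with `1 ≤ j` below the Sylow order (and of order 4 if `p ^ j = 2`) satisfy it, there is a normal
`p`-complement.
-/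

set_option autoImplicit false

namespace Cfsg.Agent.Lib.LA5.HSub.Fusion

open Subgroup Cfsg.Agent.Lib.LA5.Basic

variable {G : Type*} [Group G]

/-- `E^g ∩ N(E) ≤ E` for all `g`. -/
def HSub (E : Subgroup G) : Prop :=
  ∀ g : G, E.map (MulAut.conj g).toMonoidHom ⊓ normalizer (E : Set G) ≤ E

theorem HSub.conj {E : Subgroup G} (hE : HSub E) (x : G) :
    HSub (E.map (MulAut.conj x).toMonoidHom) := by
  intro g y hy
  obtain ⟨hy1, hy2⟩ := mem_inf.1 hy
  rw [map_conj_mul, mem_conj_iff] at hy1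
  rw [mem_conj_iff]
  refine hE (x⁻¹ * g * x) ⟨?_, ?_⟩
  · exact mem_conj_iff.2 (by simpa [mul_assoc] using hy1)
  · apply mem_normalizer_iff_conj_eq.2
    have h := mem_normalizer_iff_conj_eq.1 hy2
    rw [map_conj_mul] at h
    have h' := congrArg (Subgroup.map (MulAut.conj x⁻¹).toMonoidHom) h
    rw [map_conj_mul, map_conj_mul, inv_mul_cancel, map_conj_one] at h'
    simpa [mul_assoc] using h'

/-- Such a subgroup is normalised by every `p`-group containing it. -/
theorem HSub.le_normalizer [Finite G] {p : ℕ} [Fact p.Prime] {E Q : Subgroup G} (hE : HSub E)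
    (hQ : IsPGroup p Q) (hle : E ≤ Q) : Q ≤ normalizer (E : Set G) := by
  have key : Q ⊓ normalizer (E : Set G) = Q := by
    refine eq_of_inf_normalizer_eq hQ inf_le_left (le_antisymm ?_ (le_inf inf_le_left ?_))
    · rintro x ⟨hxQ, hxN⟩
      refine ⟨hxQ, mem_normalizer_iff_conj_eq.2 (conj_eq_self_of_le fun y hy => hE x ⟨hy, ?_⟩)⟩
      have h1 : (Q ⊓ normalizer (E : Set G)).map (MulAut.conj x).toMonoidHom = Q ⊓ normalizer (E : Set G) :=
        mem_normalizer_iff_conj_eq.1 hxN
      exact (h1.le (Subgroup.map_mono (le_inf hle Subgroup.le_normalizer) hy)).2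
    · exact Subgroup.le_normalizer
  exact inf_eq_left.1 key

/-- Such a subgroup is left invariant by the normalizer of a `p`-group containing it. -/
theorem HSub.conj_eq [Finite G] {p : ℕ} [Fact p.Prime] {E Q : Subgroup G} (hE : HSub E)
    (hQ : IsPGroup p Q) (hle : E ≤ Q) {g : G} (hg : g ∈ normalizer (Q : Set G)) :
    E.map (MulAut.conj g).toMonoidHom = E :=
  conj_eq_self_of_le fun _ hy => hE g ⟨hy, hE.le_normalizer hQ hle
    ((mem_normalizer_iff_conj_eq.1 hg).le (Subgroup.map_mono hle hy))⟩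

/-- All subgroups of order `p ^ j` (and 4, if `p ^ j = 2`) of `p`-groups are `HSub`. -/
def HCond (G : Type*) [Group G] (p j : ℕ) : Prop :=
  ∀ E : Subgroup G, IsPGroup p E → (Nat.card E = p ^ j ∨ (p ^ j = 2 ∧ Nat.card E = 4)) → HSub E

theorem hcond_of_sylow [Finite G] {p j : ℕ} [Fact p.Prime] (P : Sylow p G)
    (h : ∀ E : Subgroup G, E ≤ (P : Subgroup G) →
      (Nat.card E = p ^ j ∨ (p ^ j = 2 ∧ Nat.card E = 4)) → HSub E) : HCond G p j := by
  intro E hE hcard
  obtain ⟨T, hT⟩ := hE.exists_le_sylow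
  obtain ⟨x, hx⟩ := MulAction.exists_smul_eq G P T
  have hT' : E.map (MulAut.conj x⁻¹).toMonoidHom ≤ (P : Subgroup G) := by
    intro y hy
    rw [mem_conj_iff, inv_inv] at hy
    have h1 : x * y * x⁻¹ ∈ ((x • P : Sylow p G) : Subgroup G) := hx ▸ hT hy
    have h2 : x * y * x⁻¹ ∈ (P : Subgroup G).map (MulAut.conj x).toMonoidHom := h1
    rw [mem_conj_iff] at h2
    simpa [mul_assoc] using h2
  have := (h _ hT' (by rwa [card_conj])).conj x
  rwa [map_conj_mul, mul_inv_cancel, map_conj_one] at this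

variable [Finite G] {p : ℕ} [hp : Fact p.Prime]

theorem coprime_sub_one (hmin : ∀ q : ℕ, q.Prime → q ∣ Nat.card G → p ≤ q) (g : G) :
    (orderOf g).Coprime (p - 1) := by
  refine Nat.coprime_of_dvd fun q hq hqg hqp => ?_
  have h1 := hmin q hq (hqg.trans (orderOf_dvd_natCard g))
  have h3 := hp.out.two_le
  have h2 := Nat.le_of_dvd (by omega) hqp
  omega

/-- Conjugation by a normalizing element, as an automorphism of the subgroup. -/
def restrictConj (Q : Subgroup G) {g : G} (hg : g ∈ normalizer (Q : Set G)) : MulAut Q :=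
  ((MulAut.conj g).subgroupMap Q).trans (MulEquiv.subgroupCongr (mem_normalizer_iff_conj_eq.1 hg))

theorem restrictConj_apply (Q : Subgroup G) {g : G} (hg : g ∈ normalizer (Q : Set G)) (x : Q) :
    ((restrictConj Q hg x : Q) : G) = g * x * g⁻¹ := rfl

theorem orderOf_restrictConj_dvd (Q : Subgroup G) {g : G} (hg : g ∈ normalizer (Q : Set G)) :
    orderOf (restrictConj Q hg) ∣ orderOf g := by
  refine orderOf_dvd_of_pow_eq_one (MulEquiv.ext fun y => Subtype.ext ?_)
  have : ∀ n : ℕ, ((((restrictConj Q hg) ^ n) y : Q) : G) = g ^ n * (y : G) * (g ^ n)⁻¹ := by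
    intro n
    induction n with
    | zero => simp
    | succ n ih =>
      rw [pow_succ', MulAut.mul_apply, restrictConj_apply, ih, pow_succ']
      group
  rw [this, pow_orderOf_eq_one]
  simp

/-- A `p'`-element normalising a `p`-group of order above `p ^ j` centralises it. -/
theorem centralizes {j : ℕ} (hj : 1 ≤ j) (hc : HCond G p j) {Q : Subgroup G} (hQ : IsPGroup p Q)
    (hlt : p ^ j < Nat.card Q) {g : G} (hg : g ∈ normalizer (Q : Set G)) (hgp : (orderOf g).Coprime p)
    (hgp1 : (orderOf g).Coprime (p - 1)) : ∀ x ∈ Q, g * x * g⁻¹ = x := by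
  intro x hx
  have := Core.eq_one hQ (restrictConj Q hg)
    (Nat.Coprime.coprime_dvd_left (orderOf_restrictConj_dvd Q hg) hgp)
    (Nat.Coprime.coprime_dvd_left (orderOf_restrictConj_dvd Q hg) hgp1) hj hlt (fun E hE => ?_)
  · rw [← restrictConj_apply Q hg ⟨x, hx⟩, this]; rfl
  · have hcard : Nat.card (E.map Q.subtype) = Nat.card E := card_map_of_injective Q.subtype_injective
    have h := (hc (E.map Q.subtype) ((hQ.to_subgroup E).map Q.subtype) (by rwa [hcard])).conj_eq hQ
      (map_subtype_le E) hg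
    apply map_injective Q.subtype_injective
    conv_rhs => rw [← h]
    rw [map_map, map_map]
    rfl

/-- A `p'`-element normalising `Q ≤ P` maps each element of `Q` to itself modulo every maximal subgroup of `P`. -/
theorem commutator_mem_frattini {j : ℕ} (hj : 1 ≤ j) (hc : HCond G p j) (P : Sylow p G)
    (hd : p ^ j < Nat.card (P : Subgroup G)) {Q : Subgroup G} (hQP : Q ≤ (P : Subgroup G))
    {g : G} (hg : g ∈ normalizer (Q : Set G)) (hgp : (orderOf g).Coprime p)
    (hgp1 : (orderOf g).Coprime (p - 1)) {x : G} (hx : x ∈ Q) :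
    g * x * g⁻¹ * x⁻¹ ∈ (frattini P).map (P : Subgroup G).subtype := by
  have hPp : IsPGroup p (P : Subgroup G) := P.isPGroup'
  have hQ : IsPGroup p Q := hPp.to_le hQP
  have hgx : g * x * g⁻¹ ∈ Q := (mem_normalizer_iff.1 hg x).1 hx
  by_cases hlt : p ^ j < Nat.card Q
  · rw [centralizes hj hc hQ hlt hg hgp hgp1 x hx, mul_inv_cancel]
    exact one_mem _
  have hQle : Nat.card Q ≤ p ^ j := not_lt.1 hlt
  have hxP : g * x * g⁻¹ * x⁻¹ ∈ (P : Subgroup G) := hQP (mul_mem hgx (inv_mem hx))
  refine ⟨⟨_, hxP⟩, ?_, rfl⟩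
  rw [SetLike.mem_coe]
  simp only [frattini, Order.radical, Subgroup.mem_iInf]
  intro M hM
  have hM' : IsCoatom M := hM
  have := PGroups.coatom_normal hPp hM'
  have hidx := PGroups.coatom_index hPp hM'
  -- `Q ∩ M` lies in a subgroup of order `p ^ j` inside `M`
  set Q' : Subgroup (P : Subgroup G) := Q.subgroupOf P ⊓ M with hQ'
  have hQ'c : Nat.card Q' ≤ p ^ j := by
    refine le_trans (card_le_of_le (inf_le_left : Q' ≤ _)) ?_
    rwa [Nat.card_congr (subgroupOfEquivOfLe hQP).toEquiv]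
  have hMc : p ^ j ≤ Nat.card M := by
    obtain ⟨a, ha⟩ := hPp.exists_card_eq
    have h1 := M.card_mul_index
    rw [hidx] at h1
    rw [ha, Nat.pow_lt_pow_iff_right hp.out.one_lt] at hd
    refine Nat.le_of_mul_le_mul_right ?_ hp.out.pos
    rw [h1, ha, ← pow_succ]
    exact Nat.pow_le_pow_right hp.out.pos hd
  obtain ⟨E, hEc, hQE, hEM⟩ := Core.exists_between hPp hQ'c (inf_le_right : Q' ≤ M) hMc
  have hEH : HSub (E.map (P : Subgroup G).subtype) :=
    hc _ ((hPp.to_subgroup E).map _)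
      (Or.inl (by rw [card_map_of_injective (P : Subgroup G).subtype_injective, hEc]))
  have hinv : ∀ y : Q, (⟨y, hQP y.2⟩ : (P : Subgroup G)) ∈ M →
      (⟨g * y * g⁻¹, hQP ((mem_normalizer_iff.1 hg y).1 y.2)⟩ : (P : Subgroup G)) ∈ M := by
    intro y hy
    have hyQ : (⟨(y : G), hQP y.2⟩ : (P : Subgroup G)) ∈ Q' := ⟨by simp [mem_subgroupOf], hy⟩
    have h1 : g * (y : G) * g⁻¹ ∈ E.map (P : Subgroup G).subtype := by
      refine hEH g ⟨⟨y, ⟨⟨y, hQP y.2⟩, hQE hyQ, rfl⟩, by simp⟩, ?_⟩
      exact hEH.le_normalizer hPp (map_subtype_le E) (hQP ((mem_normalizer_iff.1 hg y).1 y.2))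
    obtain ⟨e, he, hee⟩ := h1
    exact (Subtype.ext hee : e = ⟨g * y * g⁻¹, _⟩) ▸ hEM he
  -- the quotient `Q / (Q ∩ M)` has order dividing `p`
  by_cases hQM : ∀ y : Q, (⟨y, hQP y.2⟩ : (P : Subgroup G)) ∈ M
  · exact M.mul_mem (hQM ⟨_, hgx⟩) (M.inv_mem (hQM ⟨x, hx⟩))
  let N : Subgroup Q := (M.map (P : Subgroup G).subtype).subgroupOf Q
  have hNmem : ∀ y : Q, y ∈ N ↔ (⟨y, hQP y.2⟩ : (P : Subgroup G)) ∈ M := by
    intro y
    constructor
    · rintro ⟨e, he, hee⟩
      exact (Subtype.ext hee : e = ⟨(y : G), _⟩) ▸ he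
    · intro h; exact ⟨_, h, rfl⟩
  have hNn : N.Normal := ⟨fun n hn q => (hNmem _).2 <| by
    have := Subgroup.Normal.conj_mem ‹M.Normal› _ ((hNmem n).1 hn) ⟨q, hQP q.2⟩
    exact this⟩
  have hNi : N.index = p := by
    have hdvd : N.index ∣ p := by
      have hN : N = M.comap (Subgroup.inclusion hQP) := by
        ext y; exact (hNmem y).trans Iff.rfl
      rw [hN, index_comap]
      exact (relIndex_dvd_index_of_normal _ _).trans hidx.dvd
    refine ((Nat.dvd_prime hp.out).1 hdvd).resolve_left fun h => hQM fun y => ?_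
    exact (hNmem y).1 (index_eq_one.1 h ▸ mem_top y)
  have hmap : N.map (restrictConj Q hg).toMonoidHom = N := by
    refine eq_of_le_of_card_ge ?_ (card_map_of_injective (restrictConj Q hg).injective).ge
    rintro _ ⟨y, hy, rfl⟩
    exact (hNmem _).2 (hinv y ((hNmem y).1 hy))
  have := (hNmem _).1 (Core.fixed_mod_of_index (restrictConj Q hg)
    (Nat.Coprime.coprime_dvd_left (orderOf_restrictConj_dvd Q hg) hgp1) hNi hmap ⟨x, hx⟩)
  exact this

/-- The main theorem. -/
theorem hasNormalPComplement {j : ℕ} (hj : 1 ≤ j) (hc : HCond G p j) (P : Sylow p G)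
    (hd : p ^ j < Nat.card (P : Subgroup G))
    (hmin : ∀ q : ℕ, q.Prime → q ∣ Nat.card G → p ≤ q) : Cfsg.HasNormalPComplement p G := by
  set Φ := (frattini P).map (P : Subgroup G).subtype with hΦ
  have hPΦ : (P : Subgroup G) ≤ normalizer (Φ : Set G) := by
    intro u hu
    rw [mem_normalizer_iff_conj_eq]
    refine conj_eq_self_of_le ?_
    rintro _ ⟨_, ⟨y, hy, rfl⟩, rfl⟩
    exact ⟨_, (inferInstance : (frattini P).Normal).conj_mem y hy ⟨u, hu⟩, rfl⟩
  refine Transfer.Tate.hasNormalPComplement_of_inf_pResidual_le_frattini P ?_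
  rw [inf_comm]
  refine Transfer.Fusion.inf_pResidual_le P Φ ?_
  intro x hx u _ hux
  -- every fusion in `P` fixes elements modulo `Φ`
  have key : u * x * u⁻¹ * x⁻¹ ∈ Φ := by
    have := Fusion.Alperin.fusion_invariant P (fun y => y * x⁻¹ ∈ Φ) ?_ x u hx.2 hux (by simp)
    · exact this
    intro R hR n hn y hy hyx
    -- elements of `N(R)` moving `R` only inside cosets of `Φ`
    let S : Subgroup (normalizer (R : Set G)) :=
      { carrier := {m | ∀ z ∈ R, (m : G) * z * (m : G)⁻¹ * z⁻¹ ∈ Φ}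
        one_mem' := fun z _ => by simp
        mul_mem' := fun {a b} ha hb z hz => by
          have h1 : (b : G) * z * (b : G)⁻¹ ∈ R := (mem_normalizer_iff.1 b.2 z).1 hz
          have := mul_mem (ha _ h1) (hb z hz)
          simpa [mul_assoc] using this
        inv_mem' := fun {a} ha z hz => by
          have h1 : (a : G)⁻¹ * z * a ∈ R := (mem_normalizer_iff''.1 a.2 z).1 hz
          have := inv_mem (ha _ h1)
          simpa [mul_assoc] using this }
    suffices hS : S = ⊤ by
      have h1 : (⟨n, hn⟩ : normalizer (R : Set G)) ∈ S := hS ▸ mem_top _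
      have := mul_mem (h1 y hy) hyx
      simpa [mul_assoc] using this
    obtain ⟨T, hT⟩ := ((P.isPGroup'.to_inf_left : IsPGroup p ((P : Subgroup G) ⊓ normalizer (R : Set G) :
      Subgroup G)).comap_subtype (K := normalizer (R : Set G))).exists_le_sylow
    rw [eq_top_iff, ← Transfer.PResidual.sup_sylow_eq_top T]
    refine sup_le (Transfer.PResidual.pResidual_le_iff.2 fun m hm z hz => ?_) ?_
    · exact commutator_mem_frattini hj hc P hd hR.1 m.2 (by rwa [Subgroup.orderOf_coe])
        (coprime_sub_one hmin _) hz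
    · intro m hm z hz
      have hTP : (T : Subgroup (normalizer (R : Set G))).map (normalizer (R : Set G)).subtype
          = (P : Subgroup G) ⊓ normalizer (R : Set G) :=
        hR.2.1 _ (T.isPGroup'.map _) (map_subtype_le _) fun w hw => ⟨⟨w, hw.2⟩, hT hw, rfl⟩
      have hmP : (m : G) ∈ (P : Subgroup G) := (hTP.le ⟨m, hm, rfl⟩).1
      have := PGroups.commutatorElement_mem_frattini P.isPGroup' (⟨m, hmP⟩ : (P : Subgroup G)) ⟨z, hR.1 hz⟩
      rw [commutatorElement_def] at this
      exact ⟨_, this, rfl⟩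
  rw [commutatorElement_def]
  have := inv_mem key
  simpa [mul_assoc] using this

end Cfsg.Agent.Lib.LA5.HSub.Fusion
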