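import Cfsg.Agent.Lib.LA5.HSub.Action
import Cfsg.Agent.Lib.LA5.HSub.Fusion
import Cfsg.Agent.Lib.Supersolvable.Basic
import Cfsg.Agent.Lib.PGroups.Omega
import Cfsg.Prelude.Def_SolvableStructure
import Mathlib.LinearAlgebra.Eigenspace.Basic
import Mathlib.FieldTheory.Finite.Basic
import Mathlib.GroupTheory.SchurZassenhaus

/-!
# A normal `p`-subgroup all of whose subgroups of one order are normal is hypercyclically embedded

in the form: if the quotient is supersolvable then so is the group.
-/

set_option autoImplicit false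

namespace Cfsg.Agent.Lib.LA5.HSub.Chief

open Subgroup Cfsg.Agent.Lib.LA5.Basic

universe u

variable {p : ℕ} [hp : Fact p.Prime]

/-- An automorphism with `α ^ (p - 1) = 1` of a nontrivial group of exponent `p` has an eigenvector. -/
theorem exists_eigen {V : Type*} [CommGroup V] [Nontrivial V] (hV : ∀ v : V, v ^ p = 1) (α : MulAut V)
    (hα : α ^ (p - 1) = 1) : ∃ v : V, v ≠ 1 ∧ ∃ i : ℕ, α v = v ^ i := by
  classical
  haveI : NeZero p := ⟨hp.out.ne_zero⟩
  letI : Module (ZMod p) (Additive V) := AddCommGroup.zmodModule (n := p) (G := Additive V) (fun v : Additive V => hV v.toMul)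
  let f : Module.End (ZMod p) (Additive V) :=
    AddMonoidHom.toZModLinearMap p (MonoidHom.toAdditive α.toMonoidHom)
  have hf : ∀ v : Additive V, f v = Additive.ofMul (α v.toMul) := fun _ => rfl
  have hfn : ∀ (n : ℕ) (v : Additive V), (f ^ n) v = Additive.ofMul ((α ^ n) v.toMul) := by
    intro n
    induction n with
    | zero => intro v; rfl
    | succ n ih => intro v; rw [pow_succ', Module.End.mul_apply, ih, hf, pow_succ', MulAut.mul_apply]; rfl
  have hpoly : ∀ s : Multiset (ZMod p), ∀ v : Additive V, v ≠ 0 →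
      Polynomial.aeval f (s.map fun i => Polynomial.X - Polynomial.C i).prod v = 0 →
      ∃ w : Additive V, w ≠ 0 ∧ ∃ i : ZMod p, f w = i • w := by
    intro s
    induction s using Multiset.induction_on with
    | empty => intro v hv h; simp at h; exact absurd h hv
    | cons i s ih =>
      intro v hv h
      rw [Multiset.map_cons, Multiset.prod_cons, map_mul, Module.End.mul_apply] at h
      by_cases hw : Polynomial.aeval f (s.map fun i => Polynomial.X - Polynomial.C i).prod v = 0
      · exact ih v hv hw
      · refine ⟨_, hw, i, ?_⟩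
        simpa [sub_eq_zero] using h
  obtain ⟨v, hv⟩ := exists_ne (0 : Additive V)
  obtain ⟨w, hw, i, hi⟩ := hpoly (Finset.univ : Finset (ZMod p)).val v hv (by
    have hroots := FiniteField.roots_X_pow_card_sub_X (ZMod p)
    rw [ZMod.card] at hroots
    have hmonic : (Polynomial.X ^ p - Polynomial.X : Polynomial (ZMod p)).Monic :=
      Polynomial.monic_X_pow_sub (by simp [Polynomial.degree_X]; exact hp.out.one_lt)
    have hprod := Polynomial.prod_multiset_X_sub_C_of_monic_of_roots_card_eq hmonic (by
      rw [hroots, FiniteField.X_pow_card_sub_X_natDegree_eq _ hp.out.one_lt]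
      simp)
    rw [hroots] at hprod
    rw [hprod]
    simp only [map_sub, map_pow, Polynomial.aeval_X, LinearMap.sub_apply, hfn, hf]
    have : α ^ p = α := by
      conv_lhs => rw [← Nat.sub_add_cancel hp.out.one_le, pow_succ, hα, one_mul]
    rw [this, sub_self])
  refine ⟨w.toMul, fun h => hw (toMul_eq_one.1 h), i.val, ?_⟩
  have h1 : f w = (i.val : ℕ) • w := by
    rw [hi]
    conv_lhs => rw [← ZMod.natCast_zmod_val i, Nat.cast_smul_eq_nsmul]
  exact Additive.ofMul.injective ((hf w).symm.trans h1)

/-- A normal subgroup of `p'`-index is supplemented by a `p'`-subgroup. -/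
theorem exists_supplement {G : Type*} [Group G] [Finite G] (C : Subgroup G) [C.Normal]
    (hC : ¬ p ∣ C.index) : ∃ H : Subgroup G, (Nat.card H).Coprime p ∧ H ⊔ C = ⊤ := by
  obtain ⟨T, hT, hmin⟩ := Set.Finite.exists_minimal (s := {T : Subgroup G | T ⊔ C = ⊤})
    (Set.toFinite _) ⟨⊤, top_sup_eq C⟩
  obtain ⟨P⟩ : Nonempty (Sylow p T) := inferInstance
  have hPC : (P : Subgroup T) ≤ C.subgroupOf T := by
    intro x hx
    rw [mem_subgroupOf, ← QuotientGroup.eq_one_iff]
    obtain ⟨k, hk⟩ := P.isPGroup' ⟨x, hx⟩
    have h1 : orderOf ((x : G) : G ⧸ C) ∣ p ^ k := orderOf_dvd_of_pow_eq_one (by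
      have := congrArg (fun y : (P : Subgroup T) => (((y : T) : G) : G ⧸ C)) hk
      simpa using this)
    have h2 : orderOf ((x : G) : G ⧸ C) ∣ C.index := index_eq_card C ▸ orderOf_dvd_natCard _
    exact orderOf_eq_one_iff.1 (Nat.eq_one_of_dvd_coprimes
      (((Nat.Prime.coprime_iff_not_dvd hp.out).2 hC).pow_left k) h1 h2)
  haveI : (C.subgroupOf T).Normal := inferInstance
  let Q := P.subtype hPC
  have hQ : (Q : Subgroup (C.subgroupOf T)).map (C.subgroupOf T).subtype = (P : Subgroup T) := by
    show ((P : Subgroup T).subgroupOf (C.subgroupOf T)).map (C.subgroupOf T).subtype = (P : Subgroup T)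
    rw [subgroupOf_map_subtype, inf_eq_left.2 hPC]
  have hfr := Sylow.normalizer_sup_eq_top Q
  rw [hQ] at hfr
  have hsup : (normalizer (((P : Subgroup T) : Set T))).map T.subtype ⊔ C = ⊤ := by
    rw [eq_top_iff, ← hT]
    refine sup_le ?_ le_sup_right
    calc T = (⊤ : Subgroup T).map T.subtype := by rw [← MonoidHom.range_eq_map, range_subtype]
      _ = (normalizer (((P : Subgroup T) : Set T)) ⊔ C.subgroupOf T).map T.subtype := by rw [hfr]
      _ ≤ _ := by
        rw [Subgroup.map_sup]
        exact sup_le_sup_left (by rw [subgroupOf_map_subtype]; exact inf_le_left) _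
  have hTn : normalizer (((P : Subgroup T) : Set T)) = ⊤ := by
    apply map_injective T.subtype_injective
    rw [← MonoidHom.range_eq_map, range_subtype]
    exact le_antisymm (map_subtype_le _) (hmin hsup (map_subtype_le _))
  haveI : (P : Subgroup T).Normal := normalizer_eq_top_iff.1 hTn
  obtain ⟨H, hH⟩ := exists_right_complement'_of_coprime P.card_coprime_index
  refine ⟨H.map T.subtype, ?_, ?_⟩
  · rw [card_map_of_injective T.subtype_injective, ← hH.symm.index_eq_card]
    exact ((Nat.Prime.coprime_iff_not_dvd hp.out).2 P.not_dvd_index).symm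
  · rw [eq_top_iff, ← hT]
    refine sup_le ?_ le_sup_right
    calc T = (⊤ : Subgroup T).map T.subtype := by rw [← MonoidHom.range_eq_map, range_subtype]
      _ = ((P : Subgroup T) ⊔ H).map T.subtype := by rw [hH.sup_eq_top]
      _ ≤ _ := by
        rw [Subgroup.map_sup, sup_comm]
        refine sup_le_sup_left ((map_mono hPC).trans ?_) _
        rw [subgroupOf_map_subtype]; exact inf_le_left

theorem supersolvable_of_normal {G : Type u} [Group G] [Finite G] (Q : Subgroup G) [Q.Normal]
    (hQ : IsPGroup p Q) (hGQ : Cfsg.IsSupersolvable (G ⧸ Q)) {j : ℕ} (hj : 1 ≤ j)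
    (hd : p ^ j < Nat.card Q)
    (hnorm : ∀ F : Subgroup G, F ≤ Q → (Nat.card F = p ^ j ∨ (p ^ j = 2 ∧ Nat.card F = 4)) → F.Normal) :
    Cfsg.IsSupersolvable G := by
  classical
  -- elements of `p'`-order killed in a `p'`-subgroup act trivially on `Q`
  have hact : ∀ (A : Subgroup G), (Nat.card A).Coprime p → ∀ b : A, Action.Killed p A b →
      (b : G) ∈ centralizer (Q : Set G) := by
    intro A hA b hb
    let φ : A →* MulAut Q := (MulAut.conjNormal).comp A.subtype
    have h := Action.fixes hQ hA φ hj hd (fun E hE a => ?_) hb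
    · rw [mem_centralizer_iff]
      intro x hx
      have h1 := congrArg Subtype.val (DFunLike.congr_fun h ⟨x, hx⟩)
      simp only [φ, MonoidHom.comp_apply, Subgroup.coe_subtype, MulAut.conjNormal_apply, MulAut.one_apply] at h1
      exact (mul_inv_eq_iff_eq_mul.1 h1).symm
    · have hn := hnorm (E.map Q.subtype) (map_subtype_le E)
        (by rwa [card_map_of_injective Q.subtype_injective])
      refine eq_of_le_of_card_ge ?_ (card_map_of_injective (φ a).injective).ge
      rintro _ ⟨x, hx, rfl⟩
      obtain ⟨y, hy, hyx⟩ := hn.conj_mem _ ⟨x, hx, rfl⟩ (a : G)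
      have : y = φ a x := Subtype.ext (by simpa [φ] using hyx)
      exact this ▸ hy
  suffices h : ∀ (n : ℕ) (N : Subgroup G) [N.Normal], N ≤ Q → Nat.card Q - Nat.card N ≤ n →
      Cfsg.IsSupersolvable (G ⧸ N) from
    Supersolvable.of_mulEquiv QuotientGroup.quotientBot (h _ ⊥ bot_le le_rfl)
  intro n
  induction n with
  | zero =>
    intro N _ hN hn
    have : N = Q := eq_of_le_of_card_ge hN (Nat.sub_eq_zero_iff_le.1 (Nat.le_zero.1 hn))
    subst this
    exact hGQ
  | succ n ih =>
    intro N _ hN hn
    rcases hN.eq_or_lt with rfl | hlt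
    · exact hGQ
    obtain ⟨M, ⟨hMn, hNM, hMQ⟩, hMmin⟩ := Set.Finite.exists_minimal
      (s := {M : Subgroup G | M.Normal ∧ N < M ∧ M ≤ Q}) (Set.toFinite _) ⟨Q, inferInstance, hlt, le_rfl⟩
    have hcardM : Nat.card N < Nat.card M :=
      lt_of_le_of_ne (card_le_of_le hNM.le) fun h => hNM.ne (eq_of_le_of_card_ge hNM.le h.ge)
    have hGM : Cfsg.IsSupersolvable (G ⧸ M) := ih M hMQ (by
      have := card_le_of_le hMQ; omega)
    -- work in `X = G / N` with `V = M / N`
    let π := QuotientGroup.mk' N
    have hπ : Function.Surjective π := QuotientGroup.mk'_surjective N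
    set V := M.map π with hV
    set Q' := Q.map π with hQ'
    haveI hVn : V.Normal := hMn.map π hπ
    haveI : Q'.Normal := (inferInstance : Q.Normal).map π hπ
    have hQ'p : IsPGroup p Q' := hQ.map π
    have hVQ : V ≤ Q' := map_mono hMQ
    have hVne : V ≠ ⊥ := by
      intro h
      rw [hV, Subgroup.map_eq_bot_iff, QuotientGroup.ker_mk'] at h
      exact hNM.not_ge h
    have hirr : ∀ W : Subgroup (G ⧸ N), W.Normal → W ≤ V → W = ⊥ ∨ W = V := by
      intro W hWn hWV
      by_cases hW : W = ⊥
      · exact Or.inl hW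
      refine Or.inr (le_antisymm hWV ?_)
      have hlt' : N < W.comap π := by
        refine lt_of_le_of_ne (fun x hx => ?_) fun h => hW ?_
        · show π x ∈ W
          rw [show π x = 1 from (QuotientGroup.eq_one_iff x).2 hx]
          exact one_mem _
        · rw [← map_comap_eq_self_of_surjective hπ W, ← h, Subgroup.map_eq_bot_iff, QuotientGroup.ker_mk']
      have hle : W.comap π ≤ M := by
        refine (comap_mono hWV).trans ?_
        rw [hV, comap_map_eq, QuotientGroup.ker_mk']
        exact sup_le le_rfl hNM.le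
      have := hMmin ⟨hWn.comap π, hlt', hle.trans hMQ⟩ hle
      calc V ≤ (W.comap π).map π := map_mono this
        _ = W := map_comap_eq_self_of_surjective hπ W
    -- `V` is central in `Q'` and of exponent `p`
    set C := centralizer (V : Set (G ⧸ N)) with hC
    haveI : C.Normal := by rw [hC]; infer_instance
    have hQC : Q' ≤ C := by
      have hn' : (V ⊓ centralizer (Q' : Set (G ⧸ N))).Normal := inferInstance
      rcases hirr _ hn' inf_le_left with h | h
      · exfalso
        haveI : (V.subgroupOf Q').Normal := inferInstance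
        have h1 := PGroups.normal_inf_center_ne_bot hQ'p (V.subgroupOf Q') (fun h' => hVne (by
          rw [← inf_eq_left.2 hVQ, ← subgroupOf_map_subtype, h', Subgroup.map_bot]))
        apply h1
        rw [eq_bot_iff]
        rintro x ⟨hxV, hxc⟩
        have : (x : G ⧸ N) ∈ V ⊓ centralizer (Q' : Set (G ⧸ N)) :=
          ⟨hxV, fun y hy => congrArg Subtype.val (mem_center_iff.1 hxc ⟨y, hy⟩)⟩
        rw [h, Subgroup.mem_bot] at this
        exact Subgroup.mem_bot.2 (Subtype.ext this)
      · rw [le_centralizer_iff]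
        exact h.ge.trans inf_le_right
    have hVc : IsMulCommutative V := ⟨⟨fun a b => Subtype.ext
      ((mem_centralizer_iff.1 (hQC (hVQ b.2)) a a.2))⟩⟩
    have hVexp : ∀ v ∈ V, v ^ p = 1 := by
      have hn' : (Cfsg.omegaOne p V).Normal := PGroups.omegaOne_normal
      rcases hirr _ hn' (PGroups.omegaOne_le p V) with h | h
      · exact absurd h (PGroups.omegaOne_ne_bot (hQ'p.to_le hVQ) hVne)
      · intro v hv
        have := h.ge hv
        exact ((PGroups.mem_omegaOne_iff_of_comm hVc).1 this).2
    -- the induced group is supersolvable, hence a `p'`-group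
    have hY : Cfsg.IsSupersolvable ((G ⧸ N) ⧸ C) := by
      have hle : Q ≤ C.comap π := map_le_iff_le_comap.1 hQC
      let f : G ⧸ Q →* (G ⧸ N) ⧸ C := QuotientGroup.lift Q ((QuotientGroup.mk' C).comp π)
        (fun x hx => (QuotientGroup.eq_one_iff _).2 (hle hx))
      refine Supersolvable.of_surjective f (fun y => ?_) hGQ
      obtain ⟨x, rfl⟩ := QuotientGroup.mk'_surjective C y
      obtain ⟨x, rfl⟩ := hπ x
      exact ⟨(x : G ⧸ Q), rfl⟩
    have hcopY : ¬ p ∣ C.index := by
      intro hdvd
      rw [index_eq_card] at hdvd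
      have hmax : ∀ r : ℕ, r.Prime → r ∣ Nat.card ((G ⧸ N) ⧸ C) → r ≤ p := by
        intro r hr hrd
        by_contra hlt'
        rw [not_le] at hlt'
        haveI : Fact r.Prime := ⟨hr⟩
        obtain ⟨y, hy⟩ := exists_prime_orderOf_dvd_card' r hrd
        obtain ⟨x, hx⟩ := ((QuotientGroup.mk'_surjective C).comp hπ) y
        -- the `r`-part of a preimage
        have hfin : orderOf x ≠ 0 := (orderOf_pos x).ne'
        set k := (orderOf x).factorization r with hk
        set g := x ^ (orderOf x / r ^ k) with hg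
        have hgord : orderOf g = r ^ k := by
          rw [hg, orderOf_pow_of_dvd (Nat.div_ne_zero_iff.2 ⟨pow_ne_zero _ hr.ne_zero,
              Nat.le_of_dvd (orderOf_pos x) (Nat.ordProj_dvd _ _)⟩)
            (Nat.div_dvd_of_dvd (Nat.ordProj_dvd _ _)),
            Nat.div_div_self (Nat.ordProj_dvd _ _) hfin]
        have hcop : (Nat.card (zpowers g)).Coprime p := by
          rw [Nat.card_zpowers, hgord]
          exact Nat.Coprime.pow_left _ ((Nat.coprime_primes hr hp.out).2 hlt'.ne')
        have hb : Action.Killed p (zpowers g) ⟨g, mem_zpowers g⟩ := by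
          intro m f
          rw [← orderOf_eq_one_iff]
          have h1 : orderOf (f ⟨g, mem_zpowers g⟩) ∣ (p ^ m).totient := by
            rw [← ZMod.card_units_eq_totient (p ^ m), ← Nat.card_eq_fintype_card]
            exact orderOf_dvd_natCard _
          have h2 : orderOf (f ⟨g, mem_zpowers g⟩) ∣ r ^ k := by
            refine (orderOf_map_dvd f _).trans ?_
            rw [← Subgroup.orderOf_coe, hgord]
          refine Nat.eq_one_of_dvd_coprimes (Nat.Coprime.pow_left k ?_) h2 h1
          rcases Nat.eq_zero_or_pos m with rfl | hm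
          · simp
          rw [Nat.totient_prime_pow hp.out hm]
          refine ((Nat.coprime_primes hr hp.out).2 hlt'.ne').pow_right _ |>.mul_right ?_
          refine (Nat.Prime.coprime_iff_not_dvd hr).2 fun h => ?_
          have := hp.out.two_le
          have := Nat.le_of_dvd (by omega) h
          omega
        have hgC : π g ∈ C := by
          have h1 := hact (zpowers g) hcop ⟨g, mem_zpowers g⟩ hb
          rw [hC, mem_centralizer_iff]
          rintro _ ⟨w, hw, rfl⟩
          rw [← map_mul, ← map_mul, mem_centralizer_iff.1 h1 w (hMQ hw)]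
        have h3 : y ^ (orderOf x / r ^ k) = 1 := by
          rw [← hx]
          show (QuotientGroup.mk' C (π x)) ^ _ = 1
          rw [← map_pow, ← map_pow, ← hg]
          exact (QuotientGroup.eq_one_iff _).2 hgC
        have h4 := orderOf_dvd_of_pow_eq_one h3
        rw [hy] at h4
        exact Nat.not_dvd_ordCompl hr hfin h4
      obtain ⟨R, hRn, hRc⟩ := Supersolvable.exists_normal_max_prime hY p hp.out hdvd hmax
      -- a normal subgroup of order `p` would fix all of `V`
      set R' := R.comap (QuotientGroup.mk' C) with hR'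
      haveI : R'.Normal := hRn.comap _
      let ψ : R →* MulAut V := QuotientGroup.lift C (MulAut.conjNormal (H := V)) (fun x hx => by
        refine MulEquiv.ext fun v => Subtype.ext ?_
        show x * (v : G ⧸ N) * x⁻¹ = v
        rw [← mem_centralizer_iff.1 hx v v.2, mul_inv_cancel_right]) |>.comp R.subtype
      letI : MulAction R V := MulAction.compHom V ψ
      have hsmul : ∀ (r : G ⧸ N) (hr : r ∈ R') (v : V),
          (((⟨QuotientGroup.mk' C r, hr⟩ : R) • v : V) : G ⧸ N) = r * v * r⁻¹ := fun r hr v => rfl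
      have hRp : IsPGroup p R := IsPGroup.of_card (n := 1) (by rw [hRc, pow_one])
      obtain ⟨m, hm⟩ := (hQ'p.to_le hVQ).exists_card_eq
      have hm0 : m ≠ 0 := fun h => hVne (eq_bot_of_card_eq V (by rw [hm, h, pow_zero]))
      obtain ⟨v, hv, hv1⟩ := hRp.exists_fixed_point_of_prime_dvd_card_of_fixed_point (α := V)
        (hm ▸ dvd_pow_self p hm0) (a := 1) (fun r => map_one (ψ r))
      have hne : V ⊓ centralizer (R' : Set (G ⧸ N)) ≠ ⊥ := by
        intro h
        have : (v : G ⧸ N) ∈ V ⊓ centralizer (R' : Set (G ⧸ N)) := by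
          refine ⟨v.2, mem_centralizer_iff.2 fun r hr => ?_⟩
          have h5 := hsmul r hr v
          rw [hv ⟨_, hr⟩] at h5
          exact (mul_inv_eq_iff_eq_mul.1 h5.symm)
        rw [h, Subgroup.mem_bot] at this
        exact hv1 (Subtype.ext this.symm)
      have h6 := (hirr _ inferInstance inf_le_left).resolve_left hne
      have h7 : R' ≤ C := by
        rw [hC, le_centralizer_iff]
        exact h6.ge.trans inf_le_right
      have h8 : R = ⊥ := by
        rw [← map_comap_eq_self_of_surjective (QuotientGroup.mk'_surjective C) R, ← hR',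
          Subgroup.map_eq_bot_iff, QuotientGroup.ker_mk']
        exact h7
      rw [h8, card_bot] at hRc
      exact hp.out.one_lt.ne hRc
    -- a `p'`-supplement `H` of the kernel
    have hidx : (C.comap π).index = C.index := index_comap_of_surjective C hπ
    obtain ⟨H, hHc, hHsup⟩ := exists_supplement (p := p) (C.comap π) (by rwa [hidx])
    have hkill : ∀ b : H, Action.Killed p H b → π b ∈ C := by
      intro b hb
      have h1 := hact H hHc b hb
      rw [hC, mem_centralizer_iff]
      rintro _ ⟨w, hw, rfl⟩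
      rw [← map_mul, ← map_mul, mem_centralizer_iff.1 h1 w (hMQ hw)]
    have hrep : ∀ y : (G ⧸ N) ⧸ C, ∃ h : H, QuotientGroup.mk' C (π h) = y := by
      intro y
      obtain ⟨x, rfl⟩ := ((QuotientGroup.mk'_surjective C).comp hπ) y
      have hx : x ∈ ((H ⊔ C.comap π : Subgroup G) : Set G) := hHsup ▸ mem_top x
      rw [Subgroup.mul_normal] at hx
      obtain ⟨h, hh, c, hc, rfl⟩ := hx
      refine ⟨⟨h, hh⟩, ?_⟩
      show _ = QuotientGroup.mk' C (π (h * c))
      rw [map_mul, map_mul, show QuotientGroup.mk' C (π c) = 1 from (QuotientGroup.eq_one_iff _).2 hc,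
        mul_one]
    have hYc : ∀ a b : (G ⧸ N) ⧸ C, a * b = b * a := by
      intro a b
      obtain ⟨a, rfl⟩ := hrep a
      obtain ⟨b, rfl⟩ := hrep b
      rw [← mul_inv_eq_one, mul_inv_rev, ← mul_assoc]
      have := hkill _ (Action.killed_commutator a b)
      rw [← QuotientGroup.eq_one_iff] at this
      simpa [map_mul, map_inv] using this
    have hYe : ∀ a : (G ⧸ N) ⧸ C, a ^ (p - 1) = 1 := by
      intro a
      obtain ⟨a, rfl⟩ := hrep a
      have := hkill _ (Action.killed_pow a
        (Nat.Coprime.coprime_dvd_left (orderOf_dvd_natCard a) hHc))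
      rw [← QuotientGroup.eq_one_iff] at this
      rw [← map_pow, ← map_pow]
      exact this
    -- every element acts on `V` as a scalar
    have hscal : ∀ x : G ⧸ N, ∃ i : ℕ, ∀ v ∈ V, x * v * x⁻¹ = v ^ i := by
      intro x
      haveI : Nontrivial V := (nontrivial_iff_ne_bot V).2 hVne
      letI : CommGroup V := { (inferInstance : Group V) with mul_comm := hVc.is_comm.comm }
      have hα : (MulAut.conjNormal x : MulAut V) ^ (p - 1) = 1 := by
        rw [← map_pow]
        refine MulEquiv.ext fun v => Subtype.ext ?_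
        have hx : x ^ (p - 1) ∈ C := by
          rw [← QuotientGroup.eq_one_iff]
          exact hYe (QuotientGroup.mk' C x)
        rw [MulAut.conjNormal_apply, ← mem_centralizer_iff.1 hx v v.2, mul_inv_cancel_right,
          MulAut.one_apply]
      obtain ⟨v, hv1, i, hvi⟩ := exists_eigen (p := p) (V := V)
        (fun v => Subtype.ext (hVexp v v.2)) (MulAut.conjNormal x) hα
      refine ⟨i, ?_⟩
      let W : Subgroup (G ⧸ N) :=
        { carrier := {w | w ∈ V ∧ x * w * x⁻¹ = w ^ i}
          one_mem' := ⟨one_mem _, by simp⟩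
          mul_mem' := fun {a b} ha hb => ⟨mul_mem ha.1 hb.1, by
            rw [Commute.mul_pow (congrArg Subtype.val (hVc.is_comm.comm (⟨a, ha.1⟩ : V) ⟨b, hb.1⟩) :
              a * b = b * a), ← ha.2, ← hb.2]
            group⟩
          inv_mem' := fun {a} ha => ⟨inv_mem ha.1, by rw [inv_pow, ← ha.2]; group⟩ }
      have hWn : W.Normal := by
        refine ⟨fun w hw y => ⟨hVn.conj_mem w hw.1 y, ?_⟩⟩
        have hc : y⁻¹ * x * y * x⁻¹ ∈ C := by
          rw [← QuotientGroup.eq_one_iff]
          show QuotientGroup.mk' C (y⁻¹ * x * y * x⁻¹) = 1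
          simp only [map_mul, map_inv]
          rw [mul_assoc (QuotientGroup.mk' C y)⁻¹, hYc (QuotientGroup.mk' C x), ← mul_assoc,
            inv_mul_cancel, one_mul, mul_inv_cancel]
        have hxw : x * w * x⁻¹ ∈ V := hVn.conj_mem w hw.1 x
        calc x * (y * w * y⁻¹) * x⁻¹
            = y * ((y⁻¹ * x * y * x⁻¹) * (x * w * x⁻¹) * (y⁻¹ * x * y * x⁻¹)⁻¹) * y⁻¹ := by group
          _ = y * (x * w * x⁻¹) * y⁻¹ := by
            rw [← mem_centralizer_iff.1 hc _ hxw, mul_inv_cancel_right]
          _ = (y * w * y⁻¹) ^ i := by rw [hw.2, conj_pow]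
      have hWne : W ≠ ⊥ := by
        intro h
        have hvW : (v : G ⧸ N) ∈ W := ⟨v.2, by
          have := congrArg Subtype.val hvi
          simpa using this⟩
        rw [h, Subgroup.mem_bot] at hvW
        exact hv1 (Subtype.ext hvW)
      intro w hw
      exact (((hirr W hWn (fun w hw => hw.1)).resolve_left hWne).ge hw).2
    -- so `V` is cyclic
    obtain ⟨v, hv, hv1⟩ := V.ne_bot_iff_exists_ne_one.1 hVne |>
      fun ⟨v, hv⟩ => (⟨v, v.2, fun h => hv (Subtype.ext h)⟩ : ∃ v, v ∈ V ∧ v ≠ 1)
    have hLn : (zpowers v).Normal := by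
      refine ⟨fun w hw x => ?_⟩
      obtain ⟨i, hi⟩ := hscal x
      rw [hi w (zpowers_le.2 hv hw)]
      exact pow_mem hw i
    have hVcyc : V = zpowers v :=
      ((hirr _ hLn (zpowers_le.2 hv)).resolve_left (by exact fun h => hv1 (zpowers_eq_bot.1 h))).symm
    let f : G ⧸ N →* G ⧸ M := QuotientGroup.map N M (MonoidHom.id G) hNM.le
    have hker : f.ker = V := by
      rw [show f.ker = _ from QuotientGroup.ker_map N M (MonoidHom.id G) hNM.le, comap_id]
    haveI : IsCyclic f.ker := by
      rw [hker, hVcyc]; infer_instance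
    refine Supersolvable.of_ker f (fun y => ?_) hGM
    obtain ⟨x, rfl⟩ := QuotientGroup.mk'_surjective M y
    exact ⟨(x : G ⧸ N), rfl⟩

end Cfsg.Agent.Lib.LA5.HSub.Chief
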